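import Cfsg.Agent.Lib.BlockPush.LayoutOff
import Cfsg.Agent.Lib.RootBlocks.Translate
import Cfsg.Agent.Lib.RootBlocks.HasSplit
import Cfsg.Agent.Lib.RootBlocks.LocalStarStar

/-!
A group with one maximal subgroup over a Sylow subgroup, acting on a normal elementary abelian 2-subgroup:
no elementary abelian 2-group of automorphisms over-offends, and an offender moves the fixed points of the
Sylow subgroup.
-/

set_option autoImplicit false
set_option linter.unusedSectionVars false
set_option linter.style.haveILetI false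

namespace CfsgLib.QTPush.Qrc

open Cfsg CfsgLib CfsgLib.RootCommute CfsgLib.RootBlocks CfsgLib.BlockPush
open CfsgLib.SL2Pair (fix mem_fix)
open scoped commutatorElement Pointwise

universe u

variable {Γ : Type u} [Group Γ] [Finite Γ]

attribute [local instance] commGroupOf

/-- One maximal subgroup over a Sylow subgroup, and nothing of its core moves `W`. -/
structure Act (W : Subgroup Γ) (S : Sylow 2 Γ) (M : Subgroup Γ) : Prop where
  normal : W.Normal
  elem : IsElementaryAbelian 2 W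
  le_M : (S : Subgroup Γ) ≤ M
  M_ne : M ≠ ⊤
  uniq : ∀ K : Subgroup Γ, (S : Subgroup Γ) ≤ K → K ≠ ⊤ → K ≤ M
  ker_le : Subgroup.centralizer (W : Set Γ) ≤ M
  core : ∀ N : Subgroup Γ, N.Normal → N ≤ M → (S : Subgroup Γ) ⊓ N ≤ Subgroup.centralizer (W : Set Γ)

namespace Act

variable {W : Subgroup Γ} {S : Sylow 2 Γ} {M : Subgroup Γ}

section Model

variable [IsMulCommutative ↥W] [W.Normal]

variable (W) in
/-- The action by conjugation. -/
noncomputable def act : Γ →* AddMonoid.End (Additive ↥W) :=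
  (conjAct (P := ⊤) (Subgroup.normalizer_eq_top_iff.2 (inferInstance : W.Normal)).ge).comp
    (Subgroup.topEquiv (G := Γ)).symm.toMonoidHom

theorem act_iff (g : Γ) (x : Additive ↥W) :
    act W g x = x ↔ g * ((Additive.toMul x : ↥W) : Γ) = ((Additive.toMul x : ↥W) : Γ) * g :=
  act_fixed_iff (P := ⊤) (Subgroup.normalizer_eq_top_iff.2 (inferInstance : W.Normal)).ge ⟨g, Subgroup.mem_top g⟩ x

theorem act_ker : (act W).ker = Subgroup.centralizer (W : Set Γ) := by
  ext g
  rw [MonoidHom.mem_ker, Subgroup.mem_centralizer_iff]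
  constructor
  · intro h v hv
    exact ((act_iff g (Additive.ofMul ⟨v, hv⟩)).1 (by rw [h]; rfl)).symm
  · intro h
    exact AddMonoidHom.ext fun x => (act_iff g x).2 (h _ (Additive.toMul x).2).symm

variable (W) in
/-- The faithful image. -/
abbrev Img : Type u := Γ ⧸ (act W).ker

variable (W) in
/-- The quotient map. -/
noncomputable abbrev qm : Γ →* Img W := QuotientGroup.mk' (act W).ker

variable (W) in
/-- The faithful action. -/
noncomputable def bar : Img W →* AddMonoid.End (Additive ↥W) :=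
  QuotientGroup.lift (act W).ker (act W) le_rfl

theorem qm_surj : Function.Surjective (qm W) := QuotientGroup.mk'_surjective _

theorem qm_ker : (qm W).ker = Subgroup.centralizer (W : Set Γ) := (QuotientGroup.ker_mk' _).trans act_ker

theorem bar_iff (g : Γ) (x : Additive ↥W) :
    bar W (qm W g) x = x ↔ g * ((Additive.toMul x : ↥W) : Γ) = ((Additive.toMul x : ↥W) : Γ) * g :=
  act_iff g x

theorem hasOver (a : Act W S M) : Over (bar W) (S.mapSurjective qm_surj) (M.map (qm W)) := by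
  have hq : Function.Surjective (qm W) := qm_surj
  have hcm : (M.map (qm W)).comap (qm W) = M := by rw [Subgroup.comap_map_eq, qm_ker, sup_eq_left.2 a.ker_le]
  refine ⟨fun x y e => ?_, fun x => ?_, Subgroup.map_mono a.le_M, fun e => a.M_ne ?_,
    fun K hK hne => ?_, fun N hN hNp => ?_⟩
  · obtain ⟨x, rfl⟩ := hq x
    obtain ⟨y, rfl⟩ := hq y
    refine QuotientGroup.eq.2 (MonoidHom.mem_ker.2 ?_)
    have e' : act W x = act W y := e
    rw [map_mul, ← e', ← map_mul, inv_mul_cancel, map_one]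
  · refine Additive.toMul.injective (Subtype.ext ?_)
    show (((Additive.toMul x : ↥W) ^ 2 : ↥W) : Γ) = 1
    rw [SubmonoidClass.coe_pow]
    exact a.elem.2 _ (Additive.toMul x).2
  · rw [← hcm, e, Subgroup.comap_top]
  · have h1 : K.comap (qm W) ≤ M := a.uniq _ (fun t ht => hK ⟨t, ht, rfl⟩) fun e => hne (by
      rw [← Subgroup.map_comap_eq_self_of_surjective hq K, e, Subgroup.map_top_of_surjective _ hq])
    rw [← Subgroup.map_comap_eq_self_of_surjective hq K]
    exact Subgroup.map_mono h1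
  · haveI := hN
    obtain ⟨R, hR⟩ := hNp.exists_le_sylow
    obtain ⟨y, hy⟩ := MulAction.exists_smul_eq (Img W) R (S.mapSurjective hq)
    have hNT : N ≤ (S : Subgroup Γ).map (qm W) := fun x hx => by
      show x ∈ ((S.mapSurjective hq : Sylow 2 _) : Subgroup _)
      rw [← hy]
      refine ⟨y⁻¹ * x * y, hR ?_, ?_⟩
      · have := hN.conj_mem x hx y⁻¹
        rwa [inv_inv] at this
      · show y * (y⁻¹ * x * y) * y⁻¹ = x
        group
    have hKM : N.comap (qm W) ≤ M := by
      rw [← hcm]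
      exact Subgroup.comap_mono (hNT.trans (Subgroup.map_mono a.le_M))
    refine eq_bot_iff.2 fun x hx => Subgroup.mem_bot.2 ?_
    obtain ⟨t, ht, rfl⟩ := hNT hx
    exact MonoidHom.mem_ker.1 (qm_ker.ge (a.core _ inferInstance hKM (Subgroup.mem_inf.2 ⟨ht, hx⟩)))

/-- The order of the image and the fixed vectors. -/
theorem image_facts (A : Subgroup Γ) :
    Nat.card ↥(A.map (qm W)) = (Subgroup.centralizer (W : Set Γ)).relIndex A ∧
      Nat.card ↥(fix (bar W) (A.map (qm W))) = Nat.card ↥(W ⊓ Subgroup.centralizer (A : Set Γ)) := by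
  refine ⟨?_, ?_⟩
  · rw [← qm_ker, Subgroup.relIndex_ker]
  · refine Nat.card_congr ⟨fun x => ⟨((Additive.toMul x.1 : ↥W) : Γ), (Additive.toMul x.1).2,
      Subgroup.mem_centralizer_iff.2 fun b hb => (bar_iff b x.1).1 (x.2 _ ⟨b, hb, rfl⟩)⟩,
      fun y => ⟨Additive.ofMul ⟨y.1, y.2.1⟩, ?_⟩, fun x => rfl, fun y => rfl⟩
    rintro _ ⟨b, hb, rfl⟩
    exact (bar_iff b _).2 (Subgroup.mem_centralizer_iff.1 y.2.2 b hb)

end Model

theorem image_elem {P : Type u} [Group P] (q : Γ →* P) {C A : Subgroup Γ} (hk : q.ker = C)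
    (hsq : ∀ x ∈ A, x ^ 2 ∈ C) (hcom : ∀ x ∈ A, ∀ y ∈ A, x * y * x⁻¹ * y⁻¹ ∈ C) :
    Elem 2 (A.map q) := by
  refine ⟨?_, ?_⟩
  · rintro _ ⟨x, hx, rfl⟩ _ ⟨y, hy, rfl⟩
    have h := MonoidHom.mem_ker.1 (hk.ge (hcom x hx y hy))
    rw [map_mul, map_mul, map_mul, map_inv, map_inv, mul_inv_eq_one, mul_inv_eq_iff_eq_mul] at h
    exact h
  · rintro _ ⟨x, hx, rfl⟩
    rw [← map_pow]
    exact MonoidHom.mem_ker.1 (hk.ge (hsq x hx))

/-- **No over-offenders.** -/
theorem bound (a : Act W S M) {A : Subgroup Γ} (hA : A ≤ (S : Subgroup Γ))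
    (hsq : ∀ x ∈ A, x ^ 2 ∈ Subgroup.centralizer (W : Set Γ))
    (hcom : ∀ x ∈ A, ∀ y ∈ A, x * y * x⁻¹ * y⁻¹ ∈ Subgroup.centralizer (W : Set Γ)) :
    (Subgroup.centralizer (W : Set Γ)).relIndex A * Nat.card ↥(W ⊓ Subgroup.centralizer (A : Set Γ)) ≤
      Nat.card W := by
  haveI := a.elem.1
  haveI := a.normal
  obtain ⟨hc, hf⟩ := image_facts (W := W) A
  have hov := hasOver a
  have hk : (qm W).ker = Subgroup.centralizer (W : Set Γ) := qm_ker
  set q := qm W
  set ρ := bar W
  have hq : Function.Surjective q := qm_surj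
  have he := image_elem q hk hsq hcom
  have hWc : Nat.card (Additive ↥W) = Nat.card W := Nat.card_congr Additive.toMul
  rw [← hc, ← hf, ← hWc]
  by_cases hb : A.map q = ⊥
  · rw [hb, Subgroup.card_bot, one_mul]
    exact Nat.card_le_card_of_injective _ Subtype.val_injective
  by_contra hlt
  have hmu : Nat.card (Additive ↥W) ≤ mu ρ (A.map q) := by
    rw [mu]; omega
  have hAT : A.map q ≤ ((S.mapSurjective hq : Sylow 2 _) : Subgroup (Img W)) := Subgroup.map_mono hA
  obtain ⟨r, E, -, L⟩ := exists_layout (RootBlocks.hasSplit 2) hov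
    ⟨A.map q, hAT, he.1, he.2, hb, hmu⟩
  have heq := (L.offender_facts hAT he hmu).1
  rw [mu] at heq
  omega

/-- **An offender moves a fixed point of the Sylow subgroup.** -/
theorem moved (a : Act W S M) {A : Subgroup Γ} (hA : A ≤ (S : Subgroup Γ))
    (hsq : ∀ x ∈ A, x ^ 2 ∈ Subgroup.centralizer (W : Set Γ))
    (hcom : ∀ x ∈ A, ∀ y ∈ A, x * y * x⁻¹ * y⁻¹ ∈ Subgroup.centralizer (W : Set Γ))
    (hne : ¬ A ≤ Subgroup.centralizer (W : Set Γ))
    (hmu : Nat.card W ≤
      (Subgroup.centralizer (W : Set Γ)).relIndex A * Nat.card ↥(W ⊓ Subgroup.centralizer (A : Set Γ))) :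
    ∃ z ∈ W, (∀ s ∈ (S : Subgroup Γ), s * z = z * s) ∧ ∃ g, g * z ≠ z * g := by
  haveI := a.elem.1
  haveI := a.normal
  obtain ⟨hc, hf⟩ := image_facts (W := W) A
  have hov := hasOver a
  have hk : (qm W).ker = Subgroup.centralizer (W : Set Γ) := qm_ker
  set q := qm W
  set ρ := bar W
  have hq : Function.Surjective q := qm_surj
  have he := image_elem q hk hsq hcom
  have hWc : Nat.card (Additive ↥W) = Nat.card W := Nat.card_congr Additive.toMul
  have hb : A.map q ≠ ⊥ := fun e => hne (by rw [← hk]; exact (Subgroup.map_eq_bot_iff A).1 e)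
  have hoff : HasOffender ρ (S.mapSurjective hq) := ⟨A.map q, Subgroup.map_mono hA, he.1, he.2, hb, by
    rw [mu, hc, hf, hWc]; exact hmu⟩
  obtain ⟨z, hz, g, hg⟩ := (lifted (RootBlocks.hasSplit 2) hov hoff).moved
  obtain ⟨g, rfl⟩ := hq g
  exact ⟨((Additive.toMul z : ↥W) : Γ), (Additive.toMul z).2, fun s hs => (bar_iff s z).1 (hz _ ⟨s, hs, rfl⟩),
    g, fun h => hg ((bar_iff g z).2 h)⟩

end Act

end CfsgLib.QTPush.Qrc
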