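import Cfsg.Agent.Lib.QTPush.Setting
import Cfsg.Agent.Lib.QTPush.Conj
import Cfsg.Agent.Lib.QTPush.Core
import Cfsg.Agent.Lib.Elementary

/-!
Commutators modulo a normalized subgroup, elements of odd order acting on 2-groups, and a pairing count.
-/

set_option autoImplicit false
set_option linter.unusedSectionVars false

namespace CfsgLib.QTPush.Qrc

open Cfsg CfsgLib
open scoped commutatorElement Pointwise

universe u

variable {Γ : Type u} [Group Γ] [Finite Γ]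

theorem norm_conj {L N : Subgroup Γ} (h : L ≤ Subgroup.normalizer (N : Set Γ)) {g a : Γ} (hg : g ∈ L) (ha : a ∈ N) :
    g * a * g⁻¹ ∈ N := (Subgroup.mem_normalizer_iff.1 (h hg) a).1 ha

theorem comm_mem_right {N : Subgroup Γ} {g a : Γ} (hg : g ∈ Subgroup.normalizer (N : Set Γ)) (ha : a ∈ N) :
    ⁅g, a⁆ ∈ N := by
  rw [commutatorElement_def]
  exact mul_mem ((Subgroup.mem_normalizer_iff.1 hg a).1 ha) (inv_mem ha)

theorem comm_swap_mem {N : Subgroup Γ} {g a : Γ} (h : ⁅g, a⁆ ∈ N) : ⁅a, g⁆ ∈ N := by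
  rw [← commutatorElement_inv]; exact inv_mem h

theorem comm_mem_left {N : Subgroup Γ} {g a : Γ} (ha : a ∈ Subgroup.normalizer (N : Set Γ)) (hg : g ∈ N) :
    ⁅g, a⁆ ∈ N := comm_swap_mem (comm_mem_right ha hg)

theorem comm_mul_left (a b c : Γ) : ⁅a * b, c⁆ = a * ⁅b, c⁆ * a⁻¹ * ⁅a, c⁆ := by
  simp only [commutatorElement_def]; group

theorem comm_mul_right (a b c : Γ) : ⁅a, b * c⁆ = ⁅a, b⁆ * (b * ⁅a, c⁆ * b⁻¹) := by
  simp only [commutatorElement_def]; group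

theorem comm_conj (x a b : Γ) : x * ⁅a, b⁆ * x⁻¹ = ⁅x * a * x⁻¹, x * b * x⁻¹⁆ := by
  simp only [commutatorElement_def]; group

theorem comm_eq_one {a b : Γ} (h : a * b = b * a) : ⁅a, b⁆ = 1 := commutatorElement_eq_one_iff_mul_comm.2 h

/-- Elements centralizing `W` modulo `N`. -/
def cmod (N W : Subgroup Γ) : Subgroup Γ where
  carrier := {g | g ∈ Subgroup.normalizer (N : Set Γ) ∧ ∀ w ∈ W, ⁅g, w⁆ ∈ N}
  one_mem' := ⟨one_mem _, fun w _ => by rw [commutatorElement_one_left]; exact one_mem _⟩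
  mul_mem' := fun {a b} ha hb => ⟨mul_mem ha.1 hb.1, fun w hw => by
    rw [comm_mul_left]
    exact mul_mem ((Subgroup.mem_normalizer_iff.1 ha.1 _).1 (hb.2 w hw)) (ha.2 w hw)⟩
  inv_mem' := fun {a} ha => ⟨inv_mem ha.1, fun w hw => by
    rw [show ⁅a⁻¹, w⁆ = a⁻¹ * ⁅a, w⁆⁻¹ * a⁻¹⁻¹ by simp only [commutatorElement_def]; group]
    exact (Subgroup.mem_normalizer_iff.1 (inv_mem ha.1) _).1 (inv_mem (ha.2 w hw))⟩

theorem mem_cmod {N W : Subgroup Γ} {g : Γ} :
    g ∈ cmod N W ↔ g ∈ Subgroup.normalizer (N : Set Γ) ∧ ∀ w ∈ W, ⁅g, w⁆ ∈ N := Iff.rfl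

theorem cmod_mono {N N' W W' : Subgroup Γ} {g : Γ} (h : g ∈ cmod N W) (hN : N ≤ N') (hW : W' ≤ W)
    (hg : g ∈ Subgroup.normalizer (N' : Set Γ)) : g ∈ cmod N' W' := ⟨hg, fun w hw => hN (h.2 w (hW hw))⟩

theorem le_cmod_symm {N W A : Subgroup Γ} (hW : W ≤ Subgroup.normalizer (N : Set Γ)) (h : A ≤ cmod N W) :
    W ≤ cmod N A := fun w hw => ⟨hW hw, fun _ ha => comm_swap_mem ((h ha).2 w hw)⟩

theorem le_cmod_normalizer {L N W : Subgroup Γ} (hN : L ≤ Subgroup.normalizer (N : Set Γ))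
    (hW : L ≤ Subgroup.normalizer (W : Set Γ)) : L ≤ Subgroup.normalizer (cmod N W : Set Γ) := by
  have key : ∀ g ∈ L, ∀ k ∈ cmod N W, g * k * g⁻¹ ∈ cmod N W := fun g hg k hk =>
    ⟨mul_mem (mul_mem (hN hg) hk.1) (inv_mem (hN hg)), fun w hw => by
      have h := norm_conj hN hg (hk.2 _ (norm_conj hW (inv_mem hg) hw))
      rwa [comm_conj, show g * (g⁻¹ * w * g⁻¹⁻¹) * g⁻¹ = w by group] at h⟩
  intro g hg
  refine Subgroup.mem_normalizer_iff.2 fun k => ⟨key g hg k, fun h => ?_⟩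
  have := key g⁻¹ (inv_mem hg) _ h
  rwa [show g⁻¹ * (g * k * g⁻¹) * g⁻¹⁻¹ = k by group] at this

theorem le_normalizer_inf {L A B : Subgroup Γ} (hA : L ≤ Subgroup.normalizer (A : Set Γ))
    (hB : L ≤ Subgroup.normalizer (B : Set Γ)) : L ≤ Subgroup.normalizer ((A ⊓ B : Subgroup Γ) : Set Γ) :=
  fun g hg => Subgroup.mem_normalizer_iff.2 fun k => by
    simp only [Subgroup.mem_inf]
    rw [Subgroup.mem_normalizer_iff.1 (hA hg) k, Subgroup.mem_normalizer_iff.1 (hB hg) k]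

theorem le_normalizer_sup {L A B : Subgroup Γ} (hA : L ≤ Subgroup.normalizer (A : Set Γ))
    (hB : L ≤ Subgroup.normalizer (B : Set Γ)) : L ≤ Subgroup.normalizer ((A ⊔ B : Subgroup Γ) : Set Γ) :=
  fun g hg => mem_normalizer_of_cj (by
    rw [cj, Subgroup.map_sup]
    exact congrArg₂ _ (cj_eq_of_normalizer (hA hg)) (cj_eq_of_normalizer (hB hg)))

theorem le_normalizer_comm {L A B : Subgroup Γ} (hA : L ≤ Subgroup.normalizer (A : Set Γ))
    (hB : L ≤ Subgroup.normalizer (B : Set Γ)) : L ≤ Subgroup.normalizer ((⁅A, B⁆ : Subgroup Γ) : Set Γ) :=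
  fun g hg => mem_normalizer_of_cj (by
    rw [cj_commutator, cj_eq_of_normalizer (hA hg), cj_eq_of_normalizer (hB hg)])

theorem le_normalizer_centralizer {L A : Subgroup Γ} (hA : L ≤ Subgroup.normalizer (A : Set Γ)) :
    L ≤ Subgroup.normalizer (Subgroup.centralizer (A : Set Γ) : Set Γ) :=
  hA.trans (BBlock.normalizer_le_normalizer_centralizer A)

theorem comm_le_left {A B : Subgroup Γ} (h : B ≤ Subgroup.normalizer (A : Set Γ)) : ⁅A, B⁆ ≤ A :=
  Subgroup.commutator_le.2 fun _ ha _ hb => comm_mem_left (h hb) ha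

/-- Squares and commutators of a group acting quadratically on an elementary abelian group act trivially. -/
theorem induces_of_quad {V B : Subgroup Γ} (hV : Elem2 V) (hB : B ≤ Subgroup.normalizer (V : Set Γ))
    (hq : ∀ v ∈ V, ∀ b ∈ B, ∀ b' ∈ B, ⁅b, v⁆ * b' = b' * ⁅b, v⁆)
    (hne : ¬ B ≤ Subgroup.centralizer (V : Set Γ)) : InducesElemAbelianTwoGroupOn B V := by
  have hmem : ∀ v ∈ V, ∀ b ∈ B, ⁅b, v⁆ ∈ V := fun v hv b hb => comm_mem_right (hB hb) hv
  have hfix : ∀ v ∈ V, ∀ b ∈ B, ∀ b' ∈ B, b' * ⁅b, v⁆ * b'⁻¹ = ⁅b, v⁆ := fun v hv b hb b' hb' => by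
    rw [← hq v hv b hb b' hb', mul_inv_cancel_right]
  have hact : ∀ v ∈ V, ∀ b ∈ B, ∀ b' ∈ B, b' * b * v * (b' * b)⁻¹ = ⁅b, v⁆ * ⁅b', v⁆ * v := fun v hv b hb b' hb' => by
    calc b' * b * v * (b' * b)⁻¹ = b' * ⁅b, v⁆ * b'⁻¹ * (b' * v * b'⁻¹) := by
          simp only [commutatorElement_def]; group
      _ = ⁅b, v⁆ * (b' * v * b'⁻¹) := by rw [hfix v hv b hb b' hb']
      _ = ⁅b, v⁆ * ⁅b', v⁆ * v := by simp only [commutatorElement_def]; group
  refine ⟨hne, fun b hb => Subgroup.mem_centralizer_iff.2 fun v hv => ?_, fun b hb b' hb' =>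
    Subgroup.mem_centralizer_iff.2 fun v hv => ?_⟩
  · have h := hact v hv b hb b hb
    rw [hV.2 _ (hmem v hv b hb), one_mul, ← pow_two, mul_inv_eq_iff_eq_mul] at h
    exact h.symm
  · have hcom : ∀ w ∈ V, w * (b * b' * b⁻¹ * b'⁻¹) = b * b' * b⁻¹ * b'⁻¹ * w := fun w hw => by
      have hw' : (b' * b)⁻¹ * w * (b' * b)⁻¹⁻¹ ∈ V := norm_conj hB (inv_mem (mul_mem hb' hb)) hw
      have e : b * b' * b⁻¹ * b'⁻¹ * w * (b * b' * b⁻¹ * b'⁻¹)⁻¹ = w := by
        set u := (b' * b)⁻¹ * w * (b' * b)⁻¹⁻¹ with hu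
        have h5 : b * b' * u * (b * b')⁻¹ = b' * b * u * (b' * b)⁻¹ := by
          rw [hact u hw' b' hb' b hb, hact u hw' b hb b' hb', hV.1 _ (hmem u hw' b hb) _ (hmem u hw' b' hb')]
        calc b * b' * b⁻¹ * b'⁻¹ * w * (b * b' * b⁻¹ * b'⁻¹)⁻¹ = b * b' * u * (b * b')⁻¹ := by rw [hu]; group
          _ = b' * b * u * (b' * b)⁻¹ := h5
          _ = w := by rw [hu]; group
      exact (mul_inv_eq_iff_eq_mul.1 e).symm
    exact hcom v hv

theorem comm2_eq_bot {V B : Subgroup Γ} (hq : ∀ v ∈ V, ∀ b ∈ B, ∀ b' ∈ B, ⁅b, v⁆ * b' = b' * ⁅b, v⁆) :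
    ⁅⁅V, B⁆, B⁆ = ⊥ := by
  rw [Subgroup.commutator_eq_bot_iff_le_centralizer, Subgroup.commutator_le]
  refine fun v hv b hb => Subgroup.mem_centralizer_iff.2 fun b' hb' => ?_
  rw [← commutatorElement_inv]
  exact ((show Commute ⁅b, v⁆ b' from hq v hv b hb b' hb').inv_left).eq.symm

theorem odd_mem {L : Subgroup Γ} {x : Γ} (hx : x ∈ L) (ho : Odd (orderOf x)) : x ∈ oddGenerated L :=
  Subgroup.subset_closure ⟨hx, ho⟩

theorem oddGenerated_le (L : Subgroup Γ) : oddGenerated L ≤ L := (Subgroup.closure_le _).2 fun _ h => h.1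

theorem oddGenerated_normalized (L : Subgroup Γ) : L ≤ Subgroup.normalizer (oddGenerated L : Set Γ) := fun g hg =>
  ZJFailure.mem_normalizer_of_forall fun y hy => by
    have hle : oddGenerated L ≤ (oddGenerated L).comap (MulAut.conj g).toMonoidHom :=
      (Subgroup.closure_le _).2 fun z hz => Subgroup.subset_closure ⟨mul_mem (mul_mem hg hz.1) (inv_mem hg),
        (MulEquiv.orderOf_eq (MulAut.conj g) z).symm ▸ hz.2⟩
    exact hle hy

/-- A normal subgroup with 2-group quotient contains the elements of odd order. -/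
theorem oddGenerated_le_of_sup {L N P : Subgroup Γ} (hn : L ≤ Subgroup.normalizer (N : Set Γ))
    (hP : IsPGroup 2 P) (hPL : P ≤ L) (hL : L ≤ N ⊔ P) : oddGenerated L ≤ N := by
  refine (Subgroup.closure_le _).2 fun x hx => ?_
  have hPN : P ≤ Subgroup.normalizer (N : Set Γ) := hPL.trans hn
  have h := hL hx.1
  rw [← SetLike.mem_coe, Subgroup.coe_mul_of_right_le_normalizer_left _ _ hPN] at h
  obtain ⟨a, ha, p, hp, e⟩ := h
  obtain ⟨k, hk⟩ := hP ⟨p, hp⟩
  have key : ∀ j : ℕ, x ^ j * (p ^ j)⁻¹ ∈ N := by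
    intro j
    induction j with
    | zero => simp
    | succ j ih =>
      have e2 : x ^ (j + 1) * (p ^ (j + 1))⁻¹ = x ^ j * (p ^ j)⁻¹ * (p ^ j * a * (p ^ j)⁻¹) := by
        rw [pow_succ, pow_succ, show x = a * p from e.symm]
        group
      rw [e2]
      exact mul_mem ih (norm_conj hPN (pow_mem hp j) ha)
  refine mem_of_odd hx.2 (k := k) ?_
  have h2 := key (2 ^ k)
  rwa [show p ^ 2 ^ k = 1 by simpa using congrArg Subtype.val hk, inv_one, mul_one] at h2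

/-- An element of odd order acting trivially on two factors. -/
theorem odd_chain {N : Subgroup Γ} {x u : Γ} (hx : x ∈ Subgroup.normalizer (N : Set Γ))
    (hu : u ∈ Subgroup.normalizer (N : Set Γ)) (ho : Odd (orderOf x)) (hp : ∃ k : ℕ, ⁅x, u⁆ ^ 2 ^ k ∈ N)
    (h : ⁅x, ⁅x, u⁆⁆ ∈ N) : ⁅x, u⁆ ∈ N :=
  BlockPush.push_down' (p := 2) hx hu (Nat.coprime_two_right.2 ho)
    (by rw [commutatorElement_def]; group) hp h

/-- A 2-group centralized by `O²` modulo `C` and `C` centralized modulo `N`. -/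
theorem cmod_two_steps {L U C N : Subgroup Γ} (hU : IsPGroup 2 U) (hLU : L ≤ Subgroup.normalizer (U : Set Γ))
    (hLN : L ≤ Subgroup.normalizer (N : Set Γ)) (hUN : U ≤ Subgroup.normalizer (N : Set Γ))
    (h1 : oddGenerated L ≤ cmod C U) (h2 : oddGenerated L ≤ cmod N C) : oddGenerated L ≤ cmod N U := by
  refine (Subgroup.closure_le _).2 fun x hx => ⟨hLN hx.1, fun u hu => ?_⟩
  refine odd_chain (hLN hx.1) (hUN hu) hx.2 ?_ ((h2 (odd_mem hx.1 hx.2)).2 _ ((h1 (odd_mem hx.1 hx.2)).2 u hu))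
  obtain ⟨k, hk⟩ := hU ⟨⁅x, u⁆, comm_mem_right (hLU hx.1) hu⟩
  exact ⟨k, by rw [show ⁅x, u⁆ ^ 2 ^ k = 1 by simpa using congrArg Subtype.val hk]; exact one_mem _⟩

theorem comm_le_iff_cmod {N W A : Subgroup Γ} (hA : A ≤ Subgroup.normalizer (N : Set Γ)) :
    ⁅W, A⁆ ≤ N ↔ A ≤ cmod N W := by
  rw [Subgroup.commutator_le]
  exact ⟨fun h a ha => ⟨hA ha, fun w hw => comm_swap_mem (h w hw a ha)⟩,
    fun h w hw a ha => comm_swap_mem ((h ha).2 w hw)⟩

/-- `[R, O², O²] = [R, O²]`. -/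
theorem comm_idem {L R : Subgroup Γ} (hR : IsPGroup 2 R) (hRL : R ≤ L) (hLR : L ≤ Subgroup.normalizer (R : Set Γ)) :
    ⁅⁅R, oddGenerated L⁆, oddGenerated L⁆ = ⁅R, oddGenerated L⁆ := by
  have hX := oddGenerated_normalized L
  have hP := le_normalizer_comm hLR hX
  refine le_antisymm (comm_le_left ((oddGenerated_le L).trans hP)) ?_
  have hN := le_normalizer_comm hP hX
  rw [comm_le_iff_cmod ((oddGenerated_le L).trans hN)]
  exact cmod_two_steps hR hLR hN (hRL.trans hN) ((comm_le_iff_cmod ((oddGenerated_le L).trans hP)).1 le_rfl)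
    ((comm_le_iff_cmod ((oddGenerated_le L).trans hN)).1 le_rfl)

/-- A 2-group has a proper invariant subgroup with central factor under a 2-group of operators. -/
theorem exists_central_factor {P Y N : Subgroup Γ} (hP : IsPGroup 2 P) (hY : IsPGroup 2 Y) (hNY : N ≤ Y)
    (hne : N ≠ Y) (hPY : P ≤ Subgroup.normalizer (Y : Set Γ)) (hPN : P ≤ Subgroup.normalizer (N : Set Γ))
    (hYN : Y ≤ Subgroup.normalizer (N : Set Γ)) :
    ∃ N' : Subgroup Γ, N ≤ N' ∧ N' ≤ Y ∧ N' ≠ Y ∧ P ≤ cmod N' Y ∧ Y ≤ cmod N' Y := by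
  obtain ⟨N', ⟨hNN, hN'Y, hne', hPN', hYN'⟩, hmax⟩ := Set.exists_max_image {N' : Subgroup Γ | N ≤ N' ∧ N' ≤ Y ∧
    N' ≠ Y ∧ P ≤ Subgroup.normalizer (N' : Set Γ) ∧ Y ≤ Subgroup.normalizer (N' : Set Γ)} (fun N' => Nat.card N')
    (Set.toFinite _) ⟨N, le_rfl, hNY, hne, hPN, hYN⟩
  refine ⟨N', hNN, hN'Y, hne', ?_⟩
  set K := P ⊔ Y with hK
  have hKN : K ≤ Subgroup.normalizer (N' : Set Γ) := sup_le hPN' hYN'
  have hKY : K ≤ Subgroup.normalizer (Y : Set Γ) := sup_le hPY Subgroup.le_normalizer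
  have hKp : IsPGroup 2 K := hP.to_sup_of_normal_right' hY hPY
  haveI : Group.IsNilpotent ↥K := hKp.isNilpotent
  haveI := (Subgroup.normal_subgroupOf_iff_le_normalizer (hN'Y.trans le_sup_right)).2 hKN
  haveI := (Subgroup.normal_subgroupOf_iff_le_normalizer (H := Y) (le_sup_right : Y ≤ K)).2 hKY
  set q := QuotientGroup.mk' (N'.subgroupOf K)
  have hq : Function.Surjective q := QuotientGroup.mk'_surjective _
  haveI : ((Y.subgroupOf K).map q).Normal := Subgroup.Normal.map inferInstance q hq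
  have hmap : (Y.subgroupOf K).map q ≠ ⊥ := fun e => hne' (le_antisymm hN'Y fun y hy =>
    (QuotientGroup.eq_one_iff (N := N'.subgroupOf K) (⟨y, Subgroup.mem_sup_right hy⟩ : ↥K)).1 (Subgroup.mem_bot.1 (e.le
      ⟨_, (show (⟨y, Subgroup.mem_sup_right hy⟩ : ↥K) ∈ Y.subgroupOf K from hy), rfl⟩)))
  haveI : Group.IsNilpotent (↥K ⧸ N'.subgroupOf K) := (hKp.to_quotient _).isNilpotent
  obtain ⟨z', ⟨⟨z, hz, rfl⟩, hzc⟩, hz1⟩ :=
    (Subgroup.bot_or_exists_ne_one _).resolve_left (inf_center_ne_bot_of_nilpotent hmap)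
  have hzN : (z : Γ) ∉ N' := fun h => hz1 ((QuotientGroup.eq_one_iff (N := N'.subgroupOf K) z).2 h)
  have hcz : ∀ k : ↥K, ⁅(k : Γ), (z : Γ)⁆ ∈ N' := fun k => by
    have h := Subgroup.mem_center_iff.1 hzc (q k)
    have h2 : q ⁅k, z⁆ = 1 := by rw [map_commutatorElement]; exact comm_eq_one h
    exact (QuotientGroup.eq_one_iff (N := N'.subgroupOf K) _).1 h2
  set N'' := N' ⊔ Subgroup.zpowers (z : Γ)
  have hN''Y : N'' ≤ Y := sup_le hN'Y (Subgroup.zpowers_le.2 hz)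
  have hKN'' : K ≤ Subgroup.normalizer (N'' : Set Γ) := by
    refine fun k hk => ZJFailure.mem_normalizer_of_forall fun y hy => ?_
    have hle : N'' ≤ N''.comap (MulAut.conj k).toMonoidHom := by
      refine sup_le (fun n hn => Subgroup.mem_sup_left (norm_conj hKN hk hn)) (Subgroup.zpowers_le.2 ?_)
      show k * (z : Γ) * k⁻¹ ∈ N''
      rw [show k * (z : Γ) * k⁻¹ = ⁅k, (z : Γ)⁆ * z by simp only [commutatorElement_def]; group]
      exact mul_mem (Subgroup.mem_sup_left (hcz ⟨k, hk⟩)) (Subgroup.mem_sup_right (Subgroup.mem_zpowers _))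
    exact hle hy
  have hfull : N'' = Y := by
    by_contra hne''
    have h := hmax N'' ⟨hNN.trans le_sup_left, hN''Y, hne'', le_sup_left.trans hKN'', le_sup_right.trans hKN''⟩
    have he : N' = N'' := Subgroup.eq_of_le_of_card_ge le_sup_left h
    exact hzN (he ▸ Subgroup.mem_sup_right (Subgroup.mem_zpowers _))
  have key : K ≤ cmod N' Y := by
    intro k hk
    refine ⟨hKN hk, fun y hy => ?_⟩
    have hle : N'' ≤ cmod N' (Subgroup.zpowers k) := by
      refine sup_le (fun n hn => ⟨Subgroup.le_normalizer hn, fun k' hk' => comm_mem_left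
        (hKN (Subgroup.zpowers_le.2 hk hk')) hn⟩) (Subgroup.zpowers_le.2 ⟨hKN z.2, fun k' hk' => ?_⟩)
      exact comm_swap_mem (hcz ⟨k', Subgroup.zpowers_le.2 hk hk'⟩)
    exact comm_swap_mem ((hle (hfull.ge hy)).2 k (Subgroup.mem_zpowers k))
  exact ⟨le_sup_left.trans key, le_sup_right.trans key⟩

/-- A hyperplane over `N` avoiding `y`. -/
theorem exists_hyperplane {E N : Subgroup Γ} {y : Γ} (hE : Elem2 E) (hN : N ≤ E) (hy : y ∈ E) (hyN : y ∉ N) :
    ∃ N' : Subgroup Γ, N ≤ N' ∧ N' ≤ E ∧ y ∉ N' ∧ ∀ a ∈ E, ∀ b ∈ E, (a * b ∈ N' ↔ (a ∈ N' ↔ b ∈ N')) := by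
  obtain ⟨N', ⟨h1, h2, h3⟩, hmax⟩ := Set.exists_max_image {N' : Subgroup Γ | N ≤ N' ∧ N' ≤ E ∧ y ∉ N'}
    (fun N' => Nat.card N') (Set.toFinite _) ⟨N, le_rfl, hN, hyN⟩
  refine ⟨N', h1, h2, h3, ?_⟩
  have key : ∀ e ∈ E, e ∉ N' → e * y ∈ N' := by
    intro e he heN
    set N'' := N' ⊔ Subgroup.zpowers e
    have hN''E : N'' ≤ E := sup_le h2 (Subgroup.zpowers_le.2 he)
    have hy'' : y ∈ N'' := by
      by_contra hy''
      have h := hmax N'' ⟨h1.trans le_sup_left, hN''E, hy''⟩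
      have hcard : N' = N'' := Subgroup.eq_of_le_of_card_ge le_sup_left h
      exact heN (hcard ▸ Subgroup.mem_sup_right (Subgroup.mem_zpowers e))
    have hn : Subgroup.zpowers e ≤ Subgroup.normalizer (N' : Set Γ) :=
      le_normalizer_of_comm fun a ha b hb => hE.1 a (Subgroup.zpowers_le.2 he ha) b (h2 hb)
    rw [← SetLike.mem_coe, Subgroup.coe_mul_of_right_le_normalizer_left _ _ hn] at hy''
    obtain ⟨n, hn', e', he', rfl⟩ := hy''
    change n * e' ∉ N' at h3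
    show e * (n * e') ∈ N'
    obtain ⟨j, rfl⟩ := Subgroup.mem_zpowers_iff.1 he'
    rcases Int.even_or_odd j with ⟨m, rfl⟩ | ⟨m, rfl⟩
    · rw [zpow_add, hE.2 _ (zpow_mem he m), mul_one] at h3
      exact absurd hn' h3
    · rw [zpow_add, zpow_one, two_mul, zpow_add, hE.2 _ (zpow_mem he m), one_mul,
        hE.1 n (h2 hn') e he, ← mul_assoc, hE.2 e he, one_mul]
      exact hn'
  intro a ha b hb
  by_cases haN : a ∈ N'
  · simp [haN, Subgroup.mul_mem_cancel_left N' haN]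
  by_cases hbN : b ∈ N'
  · simp [hbN, Subgroup.mul_mem_cancel_right N' hbN]
  simp only [haN, hbN, iff_true]
  have h := mul_mem (key a ha haN) (key b hb hbN)
  rwa [mul_assoc, ← mul_assoc y, hE.1 y hy b hb, mul_assoc b, hE.2 y hy, mul_one] at h

/-- **A pairing with values modulo a hyperplane: the kernel indices.** -/
theorem pair_le {A B KA KB : Subgroup Γ} (P : Γ → Γ → Prop)
    (hl : ∀ a ∈ A, ∀ a' ∈ A, ∀ b ∈ B, (P (a * a') b ↔ (P a b ↔ P a' b)))
    (hr : ∀ a ∈ A, ∀ b ∈ B, ∀ b' ∈ B, (P a (b * b') ↔ (P a b ↔ P a b')))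
    (hKA : ∀ a ∈ A, (∀ b ∈ B, P a b) → a ∈ KA) (hKB : ∀ a ∈ A, ∀ b ∈ B, b ∈ KB → P a b) :
    KA.relIndex A ≤ KB.relIndex B := by
  classical
  obtain ⟨S, hSB, hgen, hcard⟩ : ∃ S : Finset Γ, (∀ s ∈ S, s ∈ B) ∧ B ≤ (B ⊓ KB) ⊔ Subgroup.closure (S : Set Γ) ∧
      2 ^ S.card ≤ KB.relIndex B := by
    suffices h : ∀ n, ∀ K : Subgroup Γ, B ⊓ KB ≤ K → K ≤ B → K.relIndex B ≤ n →
        ∃ S : Finset Γ, (∀ s ∈ S, s ∈ B) ∧ B ≤ K ⊔ Subgroup.closure (S : Set Γ) ∧ 2 ^ S.card ≤ K.relIndex B by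
      have := h _ (B ⊓ KB) le_rfl inf_le_left le_rfl
      rwa [Subgroup.inf_relIndex_left] at this
    intro n
    induction n using Nat.strong_induction_on with
    | _ n ih =>
    intro K hK hKB' hn
    by_cases hKe : B ≤ K
    · exact ⟨∅, by simp, hKe.trans le_sup_left, by simp [Nat.one_le_iff_ne_zero, relIndex_ne_zero']⟩
    obtain ⟨s, hs, hsK⟩ := Set.not_subset.1 hKe
    set K' := K ⊔ Subgroup.zpowers s
    have hK'B : K' ≤ B := sup_le hKB' (Subgroup.zpowers_le.2 hs)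
    have hmul := Subgroup.relIndex_mul_relIndex K K' B le_sup_left hK'B
    have h2 : 2 ≤ K.relIndex K' := by
      have h1 : K.relIndex K' ≠ 1 := fun e => hsK (Subgroup.relIndex_eq_one.1 e
        (Subgroup.mem_sup_right (Subgroup.mem_zpowers s)))
      have := relIndex_ne_zero' K K'
      omega
    have hlt : K'.relIndex B < K.relIndex B := by
      rw [← hmul]
      exact lt_mul_left (Nat.pos_of_ne_zero (relIndex_ne_zero' _ _)) (by omega)
    obtain ⟨S, hS1, hS2, hS3⟩ := ih _ (hlt.trans_le hn) K' (hK.trans le_sup_left) hK'B le_rfl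
    refine ⟨insert s S, fun t ht => ?_, hS2.trans (sup_le (sup_le le_sup_left ?_) ?_), ?_⟩
    · rcases Finset.mem_insert.1 ht with rfl | ht
      · exact hs
      · exact hS1 t ht
    · exact Subgroup.zpowers_le.2 (Subgroup.mem_sup_right (Subgroup.subset_closure (by simp)))
    · exact le_trans (Subgroup.closure_mono (by simp)) le_sup_right
    · calc 2 ^ (insert s S).card ≤ 2 ^ (S.card + 1) := Nat.pow_le_pow_right (by omega) (Finset.card_insert_le _ _)
        _ = 2 * 2 ^ S.card := by rw [pow_succ']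
        _ ≤ K.relIndex K' * K'.relIndex B := Nat.mul_le_mul h2 hS3
        _ = K.relIndex B := hmul
  have hP1 : ∀ b ∈ B, P 1 b := fun b hb => by
    have h := hl 1 (one_mem _) 1 (one_mem _) b hb
    rw [one_mul] at h
    simpa using h
  have hP1r : ∀ a ∈ A, P a 1 := fun a ha => by
    have h := hr a ha 1 (one_mem _) 1 (one_mem _)
    rw [one_mul] at h
    simpa using h
  let f : ↥A ⧸ (KA.subgroupOf A) → (↥S → Prop) := fun q s => P (q.out : ↥A) s
  have hf : Function.Injective f := by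
    intro q q' e
    rw [← QuotientGroup.out_eq' q, ← QuotientGroup.out_eq' q']
    refine QuotientGroup.eq.2 ?_
    set a := (q.out : ↥A) with ha
    set a' := (q'.out : ↥A) with ha'
    show ((a⁻¹ * a' : ↥A) : Γ) ∈ KA
    set c : Γ := ((a⁻¹ * a' : ↥A) : Γ) with hc
    have hcA : c ∈ A := (a⁻¹ * a' : ↥A).2
    let F : Subgroup Γ :=
      { carrier := {b | b ∈ B ∧ P c b}
        one_mem' := ⟨one_mem _, hP1r c hcA⟩
        mul_mem' := fun {b b'} hb hb' => ⟨mul_mem hb.1 hb'.1, (hr c hcA b hb.1 b' hb'.1).2 (by simp [hb.2, hb'.2])⟩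
        inv_mem' := fun {b} hb => ⟨inv_mem hb.1, by
          have h := hr c hcA b hb.1 b⁻¹ (inv_mem hb.1)
          rw [mul_inv_cancel] at h
          simpa [hP1r c hcA, hb.2] using h⟩ }
    have hF : B ≤ F := by
      refine hgen.trans (sup_le (fun b hb => ⟨hb.1, hKB c hcA b hb.1 hb.2⟩) ((Subgroup.closure_le _).2 fun s hs => ?_))
      have hsB := hSB s hs
      refine ⟨hsB, ?_⟩
      have h1 : P (a : Γ) s ↔ P (a' : Γ) s := iff_of_eq (congrFun e ⟨s, hs⟩)
      have h2 := hl (a : Γ) a.2 c hcA s hsB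
      rw [show (a : Γ) * c = a' by rw [hc]; simp] at h2
      tauto
    exact hKA c hcA fun b hb => (hF hb).2
  calc KA.relIndex A = Nat.card (↥A ⧸ KA.subgroupOf A) := rfl
    _ ≤ Nat.card (↥S → Prop) := Nat.card_le_card_of_injective f hf
    _ = 2 ^ S.card := by simp
    _ ≤ KB.relIndex B := hcard

/-- An element of odd order trivial on the involutions of an abelian 2-group is trivial on it. -/
theorem commute_of_omega {U : Subgroup Γ} {y : Γ} (hab : ∀ a ∈ U, ∀ b ∈ U, a * b = b * a) (hU : IsPGroup 2 U)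
    (hy : y ∈ Subgroup.normalizer (U : Set Γ)) (ho : Odd (orderOf y)) (h : ∀ u ∈ U, u * u = 1 → u * y = y * u)
    {u : Γ} (hu : u ∈ U) : u * y = y * u := by
  obtain ⟨k, hk⟩ := hU ⟨u, hu⟩
  have hk' : u ^ 2 ^ k = 1 := by simpa using congrArg Subtype.val hk
  clear hk
  induction k generalizing u with
  | zero => simp_all
  | succ k ih =>
    have h2 : (u * u) * y = y * (u * u) := ih (mul_mem hu hu) (by
      rw [← pow_two, ← pow_mul, ← pow_succ']; exact hk')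
    set d := ⁅u, y⁆ with hd
    have hdU : d ∈ U := comm_mem_left hy hu
    have hd2 : d * d = 1 := by
      have e1 : ⁅u * u, y⁆ = u * d * u⁻¹ * d := by rw [comm_mul_left, hd]
      rw [comm_eq_one h2, hab u hu d hdU, mul_inv_cancel_right] at e1
      exact e1.symm
    exact (commute_of_chain ho (k := 1) (by rw [← hd, pow_one, pow_two, hd2]) (h d hdU hd2)).eq

end CfsgLib.QTPush.Qrc
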