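import Cfsg.Agent.Lib.QTPush.Qrc.NoMoved

/-!
A central `Ω₁(Z(T))`, a Thompson subgroup outside the core and no quadratic offender: a cubic offender on `V`.
-/

set_option autoImplicit false
set_option linter.unusedSectionVars false

namespace CfsgLib.QTPush.Qrc

open Cfsg CfsgLib
open scoped commutatorElement Pointwise

universe u

variable {Γ : Type u} [Group Γ] [Finite Γ]

theorem hasCubic_cj {V P : Subgroup Γ} (g : Γ) (hc : HasCubic V P) : HasCubic (cj g V) (cj g P) := by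
  obtain ⟨B, hB, ⟨hne, hsq, hcom⟩, h3, hle⟩ := hc
  have key : ∀ y, y ∈ Subgroup.centralizer (V : Set Γ) → g * y * g⁻¹ ∈ Subgroup.centralizer (cj g V : Set Γ) :=
    fun y hy => by rw [← cj_centralizer]; exact conj_mem_cj hy
  refine ⟨cj g B, cj_mono g hB, ⟨fun h => hne ?_, ?_, ?_⟩, ?_, ?_⟩
  · rw [← cj_centralizer] at h
    exact cj_le_cj.1 h
  · rintro _ ⟨b, hb, rfl⟩
    show (g * b * g⁻¹) ^ 2 ∈ _
    rw [conj_pow]
    exact key _ (hsq b hb)
  · rintro _ ⟨b, hb, rfl⟩ _ ⟨b', hb', rfl⟩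
    have h := key _ (hcom b hb b' hb')
    show g * b * g⁻¹ * (g * b' * g⁻¹) * (g * b * g⁻¹)⁻¹ * (g * b' * g⁻¹)⁻¹ ∈ _
    rwa [show g * b * g⁻¹ * (g * b' * g⁻¹) * (g * b * g⁻¹)⁻¹ * (g * b' * g⁻¹)⁻¹ =
      g * (b * b' * b⁻¹ * b'⁻¹) * g⁻¹ by group]
  · rw [← cj_commutator, ← cj_commutator, ← cj_commutator, h3]
    exact Subgroup.map_bot _
  · rwa [← cj_centralizer g B, ← cj_centralizer g V, ← cj_inf, cj_relIndex, cj_relIndex]

theorem case_b {T : Sylow 2 Γ} {M V : Subgroup Γ} (s : Setup T M V) :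
    ¬ V ≤ pCore 2 Γ ∧ HasCubic V (T : Subgroup Γ) := by
  obtain ⟨L, AR, h, l⟩ := s.exists_lsys
  have hc : HasCubic (cj h V) AR := by
    by_cases hU : ∀ U : Subgroup Γ, Elem2 U → U ≤ pCoreOf 2 L → L ≤ Subgroup.normalizer (U : Set Γ) →
        oddGenerated L ≤ cmod ⊥ U
    · exact s.cubic_of_fixed l hU
    · push Not at hU
      obtain ⟨U, h1, h2, h3, h4⟩ := hU
      exact s.cubic_of_moved l h1 h2 h3 h4
  refine ⟨fun hV => s.v_not_in_core l ?_, ?_⟩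
  · refine (cj_mono h hV).trans (le_trans (le_of_eq ?_) l.Q_core)
    exact cj_eq_of_normalizer (by rw [Subgroup.normalizer_eq_top]; exact Subgroup.mem_top h)
  · obtain ⟨B, hB, h1, h2, h3⟩ := hc
    have h4 := hasCubic_cj h⁻¹ (⟨B, hB.trans l.AR_le, h1, h2, h3⟩ : HasCubic (cj h V) (cj h (T : Subgroup Γ)))
    rwa [← cj_mul, ← cj_mul, inv_mul_cancel, cj_one, cj_one] at h4

end CfsgLib.QTPush.Qrc
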