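import Cfsg.Agent.Lib.QTPush.Qrc.Moved

/-!
A 2-group of class two moved by `O²` and an elementary abelian group acting on it with central commutators:
the second group induces no more than it fixes.
-/

set_option autoImplicit false
set_option linter.unusedSectionVars false

namespace CfsgLib.QTPush.Qrc

open Cfsg CfsgLib
open scoped commutatorElement Pointwise

universe u

variable {Γ : Type u} [Group Γ] [Finite Γ]

/-- The commutator data. -/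
structure Flat (L AR P Z₀ E₀ D : Subgroup Γ) : Prop where
  ar2 : IsPGroup 2 AR
  arL : AR ≤ L
  sup : L ≤ oddGenerated L ⊔ AR
  PL : P ≤ L
  Pn : L ≤ Subgroup.normalizer (P : Set Γ)
  p2 : IsPGroup 2 P
  zP : Z₀ ≤ P
  zc : ∀ p ∈ P, ∀ z ∈ Z₀, p * z = z * p
  zX : ∀ x ∈ oddGenerated L, ∀ z ∈ Z₀, x * z = z * x
  eZ : E₀ ≤ Z₀
  eel : Elem2 E₀
  comm : ∀ p ∈ P, ∀ q ∈ P, ⁅p, q⁆ ∈ E₀
  fixed : ∀ c ∈ P, (∀ x ∈ L, Odd (orderOf x) → x * c = c * x) → c ∈ Z₀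
  abel : ∀ A : Subgroup Γ, A ≤ P → L ≤ Subgroup.normalizer (A : Set Γ) → (∀ a ∈ A, ∀ b ∈ A, a * b = b * a) → A ≤ Z₀
  dE : ∀ d ∈ D, ∀ r ∈ P, ⁅r, d⁆ ∈ E₀
  dcE : ∀ d ∈ D, ∀ z ∈ E₀, d * z = z * d
  dX : ∀ d ∈ D, ∀ x ∈ oddGenerated L, ⁅x, d⁆ ∈ P

/-- The centralizer of `R` in `P`. -/
def cp (P R : Subgroup Γ) : Subgroup Γ := P ⊓ Subgroup.centralizer (R : Set Γ)

namespace Flat

variable {L AR P Z₀ E₀ D : Subgroup Γ} (f : Flat L AR P Z₀ E₀ D)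
include f

/-- The elements with commutators in `E₀`. -/
theorem ok_P {q : Γ} (hq : q ∈ P) : (∀ r ∈ P, ⁅r, q⁆ ∈ E₀) ∧ ∀ z ∈ E₀, q * z = z * q :=
  ⟨fun r hr => f.comm r hr q hq, fun z hz => f.zc q hq z (f.eZ hz)⟩

theorem bl {q a b : Γ} (hq : ∀ r ∈ P, ⁅r, q⁆ ∈ E₀) (ha : a ∈ P) (hb : b ∈ P) :
    ⁅a * b, q⁆ = ⁅a, q⁆ * ⁅b, q⁆ := by
  rw [comm_mul_left, f.zc a ha _ (f.eZ (hq b hb)), mul_inv_cancel_right,
    f.eel.1 _ (hq b hb) _ (hq a ha)]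

theorem br {q q' r : Γ} (hqc : ∀ z ∈ E₀, q * z = z * q) (hq' : ∀ r ∈ P, ⁅r, q'⁆ ∈ E₀) (hr : r ∈ P) :
    ⁅r, q * q'⁆ = ⁅r, q⁆ * ⁅r, q'⁆ := by
  rw [comm_mul_right, hqc _ (hq' r hr), mul_inv_cancel_right]

/-- Conjugation by `O²` shifts the second entry. -/
theorem shift {q r x : Γ} (hq : ∀ r ∈ P, ⁅r, q⁆ ∈ E₀) (hr : r ∈ P) (hx : x ∈ oddGenerated L)
    (hk : ⁅x⁻¹, q⁆ ∈ P) : ⁅x * r * x⁻¹, q⁆ = ⁅r, ⁅x⁻¹, q⁆⁆ * ⁅r, q⁆ := by
  have h1 : ⁅r, ⁅x⁻¹, q⁆ * q⁆ = ⁅r, ⁅x⁻¹, q⁆⁆ * ⁅r, q⁆ := f.br (f.ok_P hk).2 hq hr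
  rw [show ⁅x * r * x⁻¹, q⁆ = x * ⁅r, ⁅x⁻¹, q⁆ * q⁆ * x⁻¹ by simp only [commutatorElement_def]; group, h1,
    f.zX x hx _ (mul_mem (f.eZ (f.comm r hr _ hk)) (f.eZ (hq r hr))), mul_inv_cancel_right]

/-- A functional fixed by `O²` vanishes on `[A, O²]`. -/
theorem kill {q : Γ} {A N : Subgroup Γ} (hq : ∀ r ∈ P, ⁅r, q⁆ ∈ E₀) (hA : A ≤ P)
    (h : ∀ r ∈ A, ∀ x ∈ oddGenerated L, ⁅x * r * x⁻¹, q⁆ * ⁅r, q⁆⁻¹ ∈ N) :
    ∀ r ∈ (⁅A, oddGenerated L⁆ : Subgroup Γ), ⁅r, q⁆ ∈ N := by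
  let K : Subgroup Γ :=
    { carrier := {r | r ∈ P ∧ ⁅r, q⁆ ∈ N}
      one_mem' := ⟨one_mem _, by rw [commutatorElement_one_left]; exact one_mem _⟩
      mul_mem' := fun {a b} ha hb => ⟨mul_mem ha.1 hb.1, by rw [f.bl hq ha.1 hb.1]; exact mul_mem ha.2 hb.2⟩
      inv_mem' := fun {a} ha => ⟨inv_mem ha.1, by
        have h1 := f.bl hq ha.1 (inv_mem ha.1)
        rw [mul_inv_cancel, commutatorElement_one_left] at h1
        rw [eq_inv_of_mul_eq_one_right h1.symm]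
        exact inv_mem ha.2⟩ }
  have hle : ⁅A, oddGenerated L⁆ ≤ K := by
    refine Subgroup.commutator_le.2 fun r hr x hx => ?_
    have hr' := hA hr
    have hs : x * r⁻¹ * x⁻¹ ∈ P := norm_conj f.Pn (oddGenerated_le L hx) (inv_mem hr')
    have e : ⁅r, x⁆ = r * (x * r⁻¹ * x⁻¹) := by rw [commutatorElement_def]; group
    refine ⟨e ▸ mul_mem hr' hs, ?_⟩
    have h1 := h r⁻¹ (inv_mem hr) x hx
    have h2 := f.bl hq hr' (inv_mem hr')
    rw [mul_inv_cancel, commutatorElement_one_left] at h2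
    rw [eq_inv_of_mul_eq_one_right h2.symm, inv_inv] at h1
    rw [e, f.bl hq hr' hs, f.eel.1 _ (hq r hr') _ (hq _ hs)]
    exact h1
  exact fun r hr => (hle hr).2

theorem cp_normalized {R : Subgroup Γ} (hn : L ≤ Subgroup.normalizer (R : Set Γ)) :
    L ≤ Subgroup.normalizer (cp P R : Set Γ) :=
  le_normalizer_inf f.Pn (le_normalizer_centralizer hn)

theorem mem_sup_cp {R R' : Subgroup Γ} {k : Γ} (hR : R ≤ R') (hk : k ∈ R ⊔ cp P R') :
    ∃ r ∈ R, ∃ c ∈ cp P R', k = r * c := by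
  rw [← SetLike.mem_coe, Subgroup.coe_mul_of_right_le_normalizer_left _ _
    (le_normalizer_of_comm (A := cp P R') (D := R) fun c hc r hr => (Subgroup.mem_centralizer_iff.1 hc.2 r (hR hr)).symm)] at hk
  obtain ⟨r, hr, c, hc, rfl⟩ := hk
  exact ⟨r, hr, c, hc, rfl⟩

/-- A subgroup with `[R, O²] = R` that is not abelian: a hyperplane of the commutators and its radical. -/
theorem exists_rad {R : Subgroup Γ} (hRP : R ≤ P) (hRn : L ≤ Subgroup.normalizer (R : Set Γ))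
    (hRX : R ≤ ⁅R, oddGenerated L⁆) (hne : R ≠ ⊥) :
    ∃ Ns R₂ Rad : Subgroup Γ, Ns ≤ E₀ ∧ (∀ a ∈ E₀, ∀ b ∈ E₀, (a * b ∈ Ns ↔ (a ∈ Ns ↔ b ∈ Ns))) ∧
      Rad ≤ R ∧ R₂ = ⁅Rad, oddGenerated L⁆ ∧ R₂ ≤ Rad ∧ L ≤ Subgroup.normalizer (R₂ : Set Γ) ∧
      R₂ ≤ ⁅R₂, oddGenerated L⁆ ∧ Nat.card R₂ < Nat.card R ∧
      (∀ r ∈ R, (r ∈ Rad ↔ ∀ s ∈ R, ⁅r, s⁆ ∈ Ns)) ∧ ¬ R ≤ Rad := by
  set X := oddGenerated L with hX
  have hR'E : ⁅R, R⁆ ≤ E₀ := Subgroup.commutator_le.2 fun a ha b hb => f.comm a (hRP ha) b (hRP hb)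
  have hR'ne : ⁅R, R⁆ ≠ ⊥ := fun e => hne (by
    have hab : ∀ a ∈ R, ∀ b ∈ R, a * b = b * a := fun a ha b hb => commutatorElement_eq_one_iff_mul_comm.1
      (Subgroup.mem_bot.1 (e.le (Subgroup.commutator_mem_commutator ha hb)))
    have h1 := f.abel R hRP hRn hab
    refine le_bot_iff.1 (hRX.trans (Subgroup.commutator_eq_bot_iff_le_centralizer.2 fun r hr => ?_).le)
    exact Subgroup.mem_centralizer_iff.2 fun x hx => f.zX x hx r (h1 hr))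
  set R' := ⁅R, R⁆ with hR'
  have hR'n : L ≤ Subgroup.normalizer (R' : Set Γ) := le_normalizer_comm hRn hRn
  have hR'el : Elem2 R' := elem2_of_le f.eel hR'E
  obtain ⟨N', -, hN'R, hN'ne, hPN', -⟩ := exists_central_factor f.ar2 (isPGroup_elem2 hR'el) bot_le (Ne.symm hR'ne)
    (f.arL.trans hR'n) (norm_bot AR) (norm_bot R')
  obtain ⟨y, hy, hyN'⟩ := Set.not_subset.1 fun hh => hN'ne (le_antisymm hN'R hh)
  obtain ⟨Ns, hNs, hNsE, hyNs, hiff⟩ := exists_hyperplane f.eel (hN'R.trans hR'E) (hR'E hy) hyN'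
  set N := Ns ⊓ R' with hN
  have hNn : L ≤ Subgroup.normalizer (N : Set Γ) := by
    refine f.sup.trans (sup_le (fun x hx => ZJFailure.mem_normalizer_of_forall fun n hn => ?_) fun g hg => ?_)
    · rw [f.zX x hx n (f.eZ (hR'E hn.2)), mul_inv_cancel_right]; exact hn
    · exact (mem_cmod_of_le inf_le_right fun w hw => ⟨hNs ((hPN' hg).2 w hw), hN'R ((hPN' hg).2 w hw)⟩ :
        g ∈ cmod N R').1
  set Rad := R ⊓ cmod N R with hRad
  have hRadn : L ≤ Subgroup.normalizer (Rad : Set Γ) := le_normalizer_inf hRn (le_cmod_normalizer hNn hRn)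
  have hXn : L ≤ Subgroup.normalizer (X : Set Γ) := oddGenerated_normalized L
  have hR₂ : ⁅Rad, X⁆ ≤ Rad := comm_le_left ((oddGenerated_le L).trans hRadn)
  have hnot : ¬ R ≤ Rad := fun h => hyNs ((?_ : R' ≤ N) hy).1
  swap
  · exact Subgroup.commutator_le.2 fun a ha b hb => (h ha).2.2 b hb
  have hiffR : ∀ r ∈ R, (r ∈ Rad ↔ ∀ s ∈ R, ⁅r, s⁆ ∈ Ns) := fun r hr => by
    refine ⟨fun h s hs => (h.2.2 s hs).1, fun h => ⟨hr, ?_, fun s hs =>
      ⟨h s hs, Subgroup.commutator_mem_commutator hr hs⟩⟩⟩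
    exact le_normalizer_of_comm (A := R) (D := N) (fun a ha b hb => f.zc a (hRP ha) b (f.eZ (hR'E hb.2))) hr
  refine ⟨Ns, ⁅Rad, X⁆, Rad, hNsE, hiff, inf_le_left, rfl, hR₂, le_normalizer_comm hRadn hXn, ?_, ?_, hiffR, hnot⟩
  · exact (comm_idem (f.p2.to_le (inf_le_left.trans hRP)) ((inf_le_left.trans hRP).trans f.PL) hRadn).ge
  · refine lt_of_le_of_ne (Subgroup.card_le_of_le (hR₂.trans inf_le_left)) fun e => hnot ?_
    exact (Subgroup.eq_of_le_of_card_ge (hR₂.trans inf_le_left) e.ge).ge.trans hR₂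

/-- An abelian invariant subgroup contributes nothing. -/
theorem inner_core {R : Subgroup Γ} (hRP : R ≤ P) (hRn : L ≤ Subgroup.normalizer (R : Set Γ)) :
    R ⊓ Subgroup.centralizer (R : Set Γ) ≤ Z₀ :=
  f.abel _ (inf_le_left.trans hRP) (le_normalizer_inf hRn (le_normalizer_centralizer hRn)) fun _ ha b hb =>
    (Subgroup.mem_centralizer_iff.1 hb.2 _ ha.1)

theorem sup_cp_small {R₂ R : Subgroup Γ} (hR₂ : R₂ ≤ R) (hRP : R ≤ P)
    (hn : L ≤ Subgroup.normalizer (R₂ : Set Γ)) {k : Γ} (hk : k ∈ R₂ ⊔ cp P R)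
    (hc : k ∈ Subgroup.centralizer (R₂ : Set Γ)) : k ∈ cp P R := by
  obtain ⟨r, hr, c, hc', rfl⟩ := f.mem_sup_cp hR₂ hk
  have hrc : r ∈ Subgroup.centralizer (R₂ : Set Γ) := by
    have h1 := mul_mem hc (inv_mem (Subgroup.centralizer_le hR₂ hc'.2))
    rwa [mul_inv_cancel_right] at h1
  have hz := f.inner_core (hR₂.trans hRP) hn ⟨hr, hrc⟩
  refine mul_mem ⟨hRP (hR₂ hr), Subgroup.mem_centralizer_iff.2 fun s hs => f.zc s (hRP hs) r hz⟩ hc'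

theorem zP_le_cp {R : Subgroup Γ} (hRP : R ≤ P) : Z₀ ≤ cp P R := le_inf f.zP fun z hz =>
  Subgroup.mem_centralizer_iff.2 fun r hr => f.zc r (hRP hr) z hz

/-- The radical is the small subgroup up to the centre. -/
theorem rad_le {R₂ Rad : Subgroup Γ} (hRadP : Rad ≤ P) (e : R₂ = ⁅Rad, oddGenerated L⁆) (h₂ : R₂ ≤ Rad)
    (hn : L ≤ Subgroup.normalizer (R₂ : Set Γ))
    (ih : ∀ q ∈ P, (∀ x ∈ oddGenerated L, ⁅x, q⁆ ∈ R₂ ⊔ cp P R₂) → q ∈ R₂ ⊔ cp P R₂) :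
    Rad ≤ R₂ ⊔ Z₀ := by
  intro r hr
  have hmem : ∀ r ∈ Rad, ∀ x ∈ oddGenerated L, ⁅x, r⁆ ∈ R₂ := fun r hr x hx => by
    rw [e, Subgroup.commutator_comm]; exact Subgroup.commutator_mem_commutator hx hr
  obtain ⟨r₂, hr₂, c, hc, rfl⟩ := f.mem_sup_cp le_rfl (ih r (hRadP hr) fun x hx => Subgroup.mem_sup_left (hmem r hr x hx))
  refine mul_mem (Subgroup.mem_sup_left hr₂) (Subgroup.mem_sup_right ?_)
  have hcR : c ∈ Rad := by
    have h1 := mul_mem (inv_mem (h₂ hr₂)) hr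
    rwa [inv_mul_cancel_left] at h1
  refine f.fixed c hc.1 ?_
  -- `c` is fixed by odd elements
  intro x hx ho
  have hxX := odd_mem hx ho
  have hm : ⁅x, c⁆ ∈ R₂ ⊓ Subgroup.centralizer (R₂ : Set Γ) :=
    ⟨hmem c hcR x hxX, comm_mem_right (le_normalizer_centralizer hn hx) hc.2⟩
  have hz := f.inner_core (h₂.trans hRadP) hn hm
  refine commutatorElement_eq_one_iff_mul_comm.1 (Subgroup.mem_bot.1 ?_)
  obtain ⟨k, hk⟩ := f.p2 ⟨⁅x, c⁆, f.zP hz⟩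
  exact odd_chain (norm_bot L hx) (norm_bot P hc.1) ho
    ⟨k, by rw [show ⁅x, c⁆ ^ 2 ^ k = 1 by simpa using congrArg Subtype.val hk]; exact one_mem _⟩
    (by rw [comm_eq_one (f.zX x hxX _ hz)]; exact one_mem _)

/-- A functional fixed by `O²` on a perfectly moved subgroup is zero. -/
theorem kill_all {q : Γ} {R : Subgroup Γ} (hq : ∀ r ∈ P, ⁅r, q⁆ ∈ E₀) (hRP : R ≤ P)
    (hRX : R ≤ ⁅R, oddGenerated L⁆) (hk : ∀ x ∈ oddGenerated L, ⁅x, q⁆ ∈ cp P R) :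
    q ∈ Subgroup.centralizer (R : Set Γ) := by
  refine Subgroup.mem_centralizer_iff.2 fun r hr => commutatorElement_eq_one_iff_mul_comm.1 (Subgroup.mem_bot.1 ?_)
  refine f.kill hq hRP (fun r hr x hx => Subgroup.mem_bot.2 ?_) r (hRX hr)
  have h1 := hk x⁻¹ (inv_mem hx)
  rw [f.shift hq (hRP hr) hx h1.1, comm_eq_one (Subgroup.mem_centralizer_iff.1 h1.2 r hr), one_mul,
    mul_inv_cancel]

/-- The radical absorbs what `O²` does to an element pairing into the hyperplane. -/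
theorem shift_rad {Ns R R₂ Rad : Subgroup Γ} (hRP : R ≤ P) (hRn : L ≤ Subgroup.normalizer (R : Set Γ))
    (hRad : Rad ≤ R₂ ⊔ Z₀) (hiffR : ∀ r ∈ R, (r ∈ Rad ↔ ∀ s ∈ R, ⁅r, s⁆ ∈ Ns)) {q : Γ}
    (hq : ∀ r ∈ P, ⁅r, q⁆ ∈ E₀) (hqN : ∀ r ∈ R, ⁅r, q⁆ ∈ Ns)
    (hk : ∀ x ∈ oddGenerated L, ⁅x, q⁆ ∈ R ⊔ cp P R) :
    ∀ x ∈ oddGenerated L, ⁅x, q⁆ ∈ R₂ ⊔ cp P R := by
  intro x hx
  obtain ⟨r', hr', c, hc, e⟩ := f.mem_sup_cp le_rfl (hk x hx)
  have hrad : r' ∈ Rad := (hiffR r' hr').2 fun r hr => by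
    have hL := oddGenerated_le L (inv_mem hx)
    have hkP : ⁅x⁻¹⁻¹, q⁆ ∈ P := by rw [inv_inv, e]; exact mul_mem (hRP hr') hc.1
    have h1 := f.shift hq (hRP hr) (inv_mem hx) hkP
    have h2 : ⁅r, r' * c⁆ = ⁅r, r'⁆ := by
      rw [f.br (f.ok_P (hRP hr')).2 (f.ok_P hc.1).1 (hRP hr),
        comm_eq_one (Subgroup.mem_centralizer_iff.1 hc.2 r hr), mul_one]
    rw [inv_inv, e, h2] at h1
    have h3 : ⁅r, r'⁆ ∈ Ns := by
      have h4 := mul_mem (hqN _ (norm_conj hRn hL hr)) (inv_mem (hqN r hr))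
      rw [inv_inv] at h4
      rwa [h1, mul_inv_cancel_right] at h4
    exact comm_swap_mem h3
  rw [e]
  exact mul_mem ((sup_le le_sup_left ((f.zP_le_cp hRP).trans le_sup_right) : R₂ ⊔ Z₀ ≤ _) (hRad hrad))
    (Subgroup.mem_sup_right hc)

/-- What `O²` moves into `R` times its centralizer lies there. -/
theorem mem_sup : ∀ (n : ℕ) (R : Subgroup Γ), Nat.card R = n → R ≤ P → L ≤ Subgroup.normalizer (R : Set Γ) →
    R ≤ ⁅R, oddGenerated L⁆ → ∀ q ∈ P, (∀ x ∈ oddGenerated L, ⁅x, q⁆ ∈ R ⊔ cp P R) → q ∈ R ⊔ cp P R := by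
  intro n
  induction n using Nat.strong_induction_on with
  | _ n ih =>
  intro R hn hRP hRn hRX q hqP hk
  set X := oddGenerated L with hX
  by_cases hne : R = ⊥
  · subst hne
    exact Subgroup.mem_sup_right ⟨hqP, Subgroup.mem_centralizer_iff.2 fun y hy => by
      rw [SetLike.mem_coe, Subgroup.mem_bot] at hy; rw [hy, one_mul, mul_one]⟩
  obtain ⟨Ns, R₂, Rad, hNsE, hiff, hRadR, eR₂, h₂, hn₂, hX₂, hlt, hiffR, hnot⟩ := f.exists_rad hRP hRn hRX hne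
  have ih₂ := ih _ (hn ▸ hlt) R₂ rfl (h₂.trans (hRadR.trans hRP)) hn₂ hX₂
  have hRad := f.rad_le (hRadR.trans hRP) eR₂ h₂ hn₂ ih₂
  have hok := f.ok_P hqP
  -- the functional vanishes on the radical
  have hqRad : ∀ r ∈ Rad, ⁅r, q⁆ ∈ Ns := by
    have h1 : ∀ r ∈ R₂, ⁅r, q⁆ ∈ Ns := by
      rw [eR₂]
      refine f.kill hok.1 (hRadR.trans hRP) fun r hr x hx => ?_
      obtain ⟨r', hr', c, hc, e⟩ := f.mem_sup_cp le_rfl (hk x⁻¹ (inv_mem hx))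
      have hkP : ⁅x⁻¹, q⁆ ∈ P := by rw [e]; exact mul_mem (hRP hr') hc.1
      rw [f.shift hok.1 (hRP (hRadR hr)) hx hkP, e, mul_inv_cancel_right,
        f.br (f.ok_P (hRP hr')).2 (f.ok_P hc.1).1 (hRP (hRadR hr)),
        comm_eq_one (Subgroup.mem_centralizer_iff.1 hc.2 r (hRadR hr)), mul_one]
      exact (hiffR r (hRadR hr)).1 hr r' hr'
    intro r hr
    have hle : R₂ ⊔ Z₀ ≤ cmod Ns (Subgroup.zpowers q) := by
      have hnorm : ∀ a ∈ P, a ∈ Subgroup.normalizer (Ns : Set Γ) := fun a ha =>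
        le_normalizer_of_comm (A := P) (D := Ns) (fun a ha b hb => f.zc a ha b (f.eZ (hNsE hb))) ha
      have hz : ∀ a ∈ P, ⁅a, q⁆ ∈ Ns → a ∈ cmod Ns (Subgroup.zpowers q) := fun a ha hh => ⟨hnorm a ha, by
        have hle' : Subgroup.zpowers q ≤ cmod Ns (Subgroup.zpowers a) := by
          refine Subgroup.zpowers_le.2 ⟨hnorm q hqP, fun a' ha' => ?_⟩
          obtain ⟨j, rfl⟩ := Subgroup.mem_zpowers_iff.1 ha'
          let K : Subgroup Γ :=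
            { carrier := {u | u ∈ P ∧ ⁅u, q⁆ ∈ Ns}
              one_mem' := ⟨one_mem _, by rw [commutatorElement_one_left]; exact one_mem _⟩
              mul_mem' := fun {u v} hu hv => ⟨mul_mem hu.1 hv.1, by
                rw [f.bl hok.1 hu.1 hv.1]; exact mul_mem hu.2 hv.2⟩
              inv_mem' := fun {u} hu => ⟨inv_mem hu.1, by
                have h2 := f.bl hok.1 hu.1 (inv_mem hu.1)
                rw [mul_inv_cancel, commutatorElement_one_left] at h2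
                rw [eq_inv_of_mul_eq_one_right h2.symm]
                exact inv_mem hu.2⟩ }
          exact comm_swap_mem (zpow_mem (show a ∈ K from ⟨ha, hh⟩) j).2
        intro w hw
        exact comm_swap_mem ((hle' hw).2 a (Subgroup.mem_zpowers a))⟩
      refine sup_le (fun a ha => hz a (hRP (hRadR (h₂ ha))) (h1 a ha)) fun a ha => hz a (f.zP ha) ?_
      rw [comm_eq_one (f.zc q hqP a ha).symm]; exact one_mem _
    exact (hle (hRad hr)).2 q (Subgroup.mem_zpowers q)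
  -- an inner element inducing it
  obtain ⟨r₀, hr₀, hr₀q⟩ : ∃ r₀ ∈ R, ∀ r ∈ R, (⁅r, q⁆ ∈ Ns ↔ ⁅r, r₀⁆ ∈ Ns) := by
    by_cases hall : ∀ r ∈ R, ⁅r, q⁆ ∈ Ns
    · exact ⟨1, one_mem _, fun r hr => by simp [hall r hr, commutatorElement_one_right]⟩
    push Not at hall
    obtain ⟨a, ha, haq⟩ := hall
    let K : Subgroup Γ :=
      { carrier := {r | r ∈ R ∧ ⁅r, q⁆ ∈ Ns}
        one_mem' := ⟨one_mem _, by rw [commutatorElement_one_left]; exact one_mem _⟩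
        mul_mem' := fun {u v} hu hv => ⟨mul_mem hu.1 hv.1, by
          rw [f.bl hok.1 (hRP hu.1) (hRP hv.1)]; exact mul_mem hu.2 hv.2⟩
        inv_mem' := fun {u} hu => ⟨inv_mem hu.1, by
          have h2 := f.bl hok.1 (hRP hu.1) (inv_mem (hRP hu.1))
          rw [mul_inv_cancel, commutatorElement_one_left] at h2
          rw [eq_inv_of_mul_eq_one_right h2.symm]
          exact inv_mem hu.2⟩ }
    have hKR : K ≤ R := fun r hr => hr.1
    let Kp : Subgroup Γ :=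
      { carrier := {u | u ∈ R ∧ ∀ k ∈ K, ⁅u, k⁆ ∈ Ns}
        one_mem' := ⟨one_mem _, fun k _ => by rw [commutatorElement_one_left]; exact one_mem _⟩
        mul_mem' := fun {u v} hu hv => ⟨mul_mem hu.1 hv.1, fun k hk' => by
          rw [f.bl (f.ok_P (hRP (hKR hk'))).1 (hRP hu.1) (hRP hv.1)]; exact mul_mem (hu.2 k hk') (hv.2 k hk')⟩
        inv_mem' := fun {u} hu => ⟨inv_mem hu.1, fun k hk' => by
          have h2 := f.bl (f.ok_P (hRP (hKR hk'))).1 (hRP hu.1) (inv_mem (hRP hu.1))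
          rw [mul_inv_cancel, commutatorElement_one_left] at h2
          rw [eq_inv_of_mul_eq_one_right h2.symm]
          exact inv_mem (hu.2 k hk')⟩ }
    have hpair : Kp.relIndex R ≤ Rad.relIndex K := by
      refine pair_le (KA := Kp) (KB := Rad) (fun u k => ⁅u, k⁆ ∈ Ns) (fun u hu v hv k hk' => ?_) (fun u hu k hk' k' hk'' => ?_)
        (fun u hu h => ⟨hu, h⟩) (fun u hu k hk' hkr => comm_swap_mem ((hiffR k (hKR hk')).1 hkr u hu))
      · rw [f.bl (f.ok_P (hRP (hKR hk'))).1 (hRP hu) (hRP hv),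
          hiff _ (f.comm _ (hRP hu) _ (hRP (hKR hk'))) _ (f.comm _ (hRP hv) _ (hRP (hKR hk')))]
      · rw [f.br (f.ok_P (hRP (hKR hk'))).2 (f.ok_P (hRP (hKR hk''))).1 (hRP hu),
          hiff _ (f.comm _ (hRP hu) _ (hRP (hKR hk'))) _ (f.comm _ (hRP hu) _ (hRP (hKR hk'')))]
    obtain ⟨r₀, hr₀, hr₀R⟩ : ∃ r₀ ∈ Kp, r₀ ∉ Rad := by
      by_contra hno
      push Not at hno
      have h1 : Rad.relIndex R ≤ Kp.relIndex R := relIndex_mono_left R (fun u hu => hno u hu.1)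
      have h2 := Subgroup.relIndex_mul_relIndex Rad K R (fun r hr => ⟨hRadR hr, hqRad r hr⟩) hKR
      have h3 : K.relIndex R ≠ 1 := fun e => haq ((Subgroup.relIndex_eq_one.1 e) ha).2
      have h4 := relIndex_ne_zero' K R
      have h5 := relIndex_ne_zero' Rad K
      nlinarith [show 2 ≤ K.relIndex R by omega, show 1 ≤ Rad.relIndex K by omega]
    refine ⟨r₀, hr₀.1, fun r hr => ⟨fun h => comm_swap_mem (hr₀.2 r ⟨hr, h⟩), fun h => ?_⟩⟩
    by_contra hrq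
    have hnall := (not_congr (hiffR r₀ hr₀.1)).1 hr₀R
    push Not at hnall
    obtain ⟨t, ht, hts⟩ := hnall
    have htq : ⁅t, q⁆ ∉ Ns := fun hh => hts (hr₀.2 t ⟨ht, hh⟩)
    have h6 : r * t ∈ K := ⟨mul_mem hr ht, by
      rw [f.bl hok.1 (hRP hr) (hRP ht), hiff _ (hok.1 r (hRP hr)) _ (hok.1 t (hRP ht))]
      exact iff_of_false hrq htq⟩
    have h7 := hr₀.2 _ h6
    rw [f.br (f.ok_P (hRP hr)).2 (f.ok_P (hRP ht)).1 (hRP hr₀.1)] at h7
    have h8 := mul_mem (inv_mem (comm_swap_mem h)) h7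
    rw [inv_mul_cancel_left] at h8
    exact hts h8
  have hr₀P := hRP hr₀
  set q₁ := q * r₀ with hq₁
  have hq₁P : q₁ ∈ P := mul_mem hqP hr₀P
  have hq₁N : ∀ r ∈ R, ⁅r, q₁⁆ ∈ Ns := fun r hr => by
    rw [hq₁, f.br hok.2 (f.ok_P hr₀P).1 (hRP hr), hiff _ (hok.1 r (hRP hr)) _ (f.comm r (hRP hr) r₀ hr₀P)]
    exact hr₀q r hr
  have hk₁ : ∀ x ∈ X, ⁅x, q₁⁆ ∈ R ⊔ cp P R := fun x hx => by
    rw [hq₁, comm_mul_right]
    refine mul_mem (hk x hx) (Subgroup.mem_sup_left ?_)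
    exact norm_conj hRn (f.PL hqP) (comm_mem_right (hRn (oddGenerated_le L hx)) hr₀)
  have hk₂ := f.shift_rad hRP hRn hRad hiffR (f.ok_P hq₁P).1 hq₁N hk₁
  have hle₂ : R₂ ⊔ cp P R ≤ R₂ ⊔ cp P R₂ :=
    sup_le le_sup_left (le_trans (inf_le_inf_left _ (Subgroup.centralizer_le (h₂.trans hRadR))) le_sup_right)
  obtain ⟨r₂, hr₂, c, hc, e⟩ := f.mem_sup_cp le_rfl (ih₂ q₁ hq₁P fun x hx => hle₂ (hk₂ x hx))
  have hcR : c ∈ Subgroup.centralizer (R : Set Γ) := by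
    refine f.kill_all (f.ok_P hc.1).1 hRP hRX fun x hx => f.sup_cp_small (h₂.trans hRadR) hRP hn₂ ?_
      (comm_mem_right (le_normalizer_centralizer hn₂ (oddGenerated_le L hx)) hc.2)
    have hec : c = r₂⁻¹ * q₁ := by rw [e, inv_mul_cancel_left]
    rw [hec, comm_mul_right]
    refine mul_mem (Subgroup.mem_sup_left (comm_mem_right (hn₂ (oddGenerated_le L hx)) (inv_mem hr₂))) ?_
    exact norm_conj (le_normalizer_sup hn₂ (f.cp_normalized hRn))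
      (inv_mem (f.PL (hRP (hRadR (h₂ hr₂))))) (hk₂ x hx)
  have h9 : q₁ ∈ R ⊔ cp P R := e ▸ mul_mem (Subgroup.mem_sup_left (hRadR (h₂ hr₂)))
    (Subgroup.mem_sup_right ⟨hc.1, hcR⟩)
  have h10 := mul_mem h9 (inv_mem (Subgroup.mem_sup_left hr₀ : r₀ ∈ R ⊔ cp P R))
  rwa [hq₁, mul_inv_cancel_right] at h10

/-- **The count.** -/
theorem count : ∀ (n : ℕ) (R D' : Subgroup Γ), Nat.card R = n → R ≤ P → L ≤ Subgroup.normalizer (R : Set Γ) →
    R ≤ ⁅R, oddGenerated L⁆ → D' ≤ D → (∀ d ∈ D', ∀ x ∈ oddGenerated L, ⁅x, d⁆ ∈ R ⊔ cp P R) →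
    (Subgroup.centralizer (R : Set Γ)).relIndex D' ≤ (Subgroup.centralizer (D' : Set Γ)).relIndex R := by
  intro n
  induction n using Nat.strong_induction_on with
  | _ n ih =>
  intro R D' hn hRP hRn hRX hDD hk
  set X := oddGenerated L with hX
  by_cases hne : R = ⊥
  · subst hne
    rw [Subgroup.relIndex_eq_one.2 fun y _ => Subgroup.mem_centralizer_iff.2 fun z hz => by
      rw [SetLike.mem_coe, Subgroup.mem_bot] at hz; rw [hz, one_mul, mul_one]]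
    exact Nat.one_le_iff_ne_zero.2 (relIndex_ne_zero' _ _)
  obtain ⟨Ns, R₂, Rad, hNsE, hiff, hRadR, eR₂, h₂, hn₂, hX₂, hlt, hiffR, hnot⟩ := f.exists_rad hRP hRn hRX hne
  have hR₂R : R₂ ≤ R := h₂.trans hRadR
  have hRad := f.rad_le (hRadR.trans hRP) eR₂ h₂ hn₂ (f.mem_sup _ R₂ rfl (hR₂R.trans hRP) hn₂ hX₂)
  have hnD : D ≤ Subgroup.normalizer (Ns : Set Γ) :=
    le_normalizer_of_comm fun d hd z hz => f.dcE d hd z (hNsE hz)
  have hnP : P ≤ Subgroup.normalizer (Ns : Set Γ) :=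
    le_normalizer_of_comm fun a ha z hz => f.zc a ha z (f.eZ (hNsE hz))
  set D₁ := D' ⊓ cmod Ns R with hD₁
  set RN := R ⊓ cmod Ns D' with hRN
  -- the pairing
  have hpair : D₁.relIndex D' ≤ RN.relIndex R := by
    refine pair_le (KA := D₁) (KB := RN) (fun d r => ⁅r, d⁆ ∈ Ns) (fun d hd d' hd' r hr => ?_) (fun d hd r hr r' hr' => ?_)
      (fun d hd h => ⟨hd, hnD (hDD hd), fun r hr => comm_swap_mem (h r hr)⟩) (fun d hd r _ hrN => hrN.2.2 d hd)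
    · rw [f.br (f.dcE d (hDD hd)) (f.dE d' (hDD hd')) (hRP hr),
        hiff _ (f.dE d (hDD hd) r (hRP hr)) _ (f.dE d' (hDD hd') r (hRP hr))]
    · rw [f.bl (f.dE d (hDD hd)) (hRP hr) (hRP hr'),
        hiff _ (f.dE d (hDD hd) r (hRP hr)) _ (f.dE d (hDD hd) r' (hRP hr'))]
  -- the small subgroup pairs trivially
  have hR₂N : R₂ ≤ RN := fun r hr => ⟨hR₂R hr, hnP (hRP (hR₂R hr)), fun d hd => by
    have hok := f.dE d (hDD hd)
    refine f.kill hok (hRadR.trans hRP) (fun r hr x hx => ?_) r (eR₂ ▸ hr)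
    obtain ⟨r', hr', c, hc, e⟩ := f.mem_sup_cp le_rfl (hk d hd x⁻¹ (inv_mem hx))
    have hkP : ⁅x⁻¹, d⁆ ∈ P := f.dX d (hDD hd) x⁻¹ (inv_mem hx)
    rw [f.shift hok (hRP (hRadR hr)) hx hkP, e, mul_inv_cancel_right,
      f.br (f.ok_P (hRP hr')).2 (f.ok_P hc.1).1 (hRP (hRadR hr)),
      comm_eq_one (Subgroup.mem_centralizer_iff.1 hc.2 r (hRadR hr)), mul_one]
    exact (hiffR r (hRadR hr)).1 hr r' hr'⟩
  have hshift : ∀ d ∈ D₁, ∀ x ∈ X, ⁅x, d⁆ ∈ R₂ ⊔ cp P R := fun d hd =>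
    f.shift_rad hRP hRn hRad hiffR (f.dE d (hDD hd.1)) (fun r hr => comm_swap_mem (hd.2.2 r hr)) (hk d hd.1)
  have hle₂ : R₂ ⊔ cp P R ≤ R₂ ⊔ cp P R₂ :=
    sup_le le_sup_left (le_trans (inf_le_inf_left _ (Subgroup.centralizer_le hR₂R)) le_sup_right)
  have hrec := ih _ (hn ▸ hlt) R₂ D₁ rfl (hR₂R.trans hRP) hn₂ hX₂ (inf_le_left.trans hDD)
    fun d hd x hx => hle₂ (hshift d hd x hx)
  have hfix : D₁ ⊓ Subgroup.centralizer (R₂ : Set Γ) ≤ Subgroup.centralizer (R : Set Γ) := fun d hd =>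
    f.kill_all (f.dE d (hDD hd.1.1)) hRP hRX fun x hx => f.sup_cp_small hR₂R hRP hn₂ (hshift d hd.1 x hx)
      (comm_mem_right (le_normalizer_centralizer hn₂ (oddGenerated_le L hx)) hd.2)
  set cD := Subgroup.centralizer (D' : Set Γ) with hcD
  calc (Subgroup.centralizer (R : Set Γ)).relIndex D'
      ≤ (Subgroup.centralizer (R : Set Γ)).relIndex D₁ * D₁.relIndex D' := relIndex_le_mul _ inf_le_left
    _ ≤ cD.relIndex RN * RN.relIndex R := by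
        refine Nat.mul_le_mul ?_ hpair
        refine le_trans ?_ (relIndex_mono_right cD hR₂N)
        refine le_trans (relIndex_mono_left D₁ (by rw [inf_comm]; exact hfix)) (hrec.trans ?_)
        exact relIndex_mono_left R₂ (inf_le_left.trans (Subgroup.centralizer_le inf_le_left))
    _ = cD.relIndex R := (relIndex_chain (C := cD) (S' := RN) (S := R) inf_le_left fun r hr => ⟨hr.1, hnP (hRP hr.1), fun d hd => by
        rw [comm_eq_one (Subgroup.mem_centralizer_iff.1 hr.2 d hd).symm]; exact one_mem _⟩).symm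

end Flat

end CfsgLib.QTPush.Qrc
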