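import Cfsg.Agent.Lib.QTPush.Qrc.Moved

/-!
On a chief factor of the core moved by `O²` the abelian group induced by `V` fixes at most the predicted part.
-/

set_option autoImplicit false
set_option linter.unusedSectionVars false

namespace CfsgLib.QTPush.Qrc

open Cfsg CfsgLib
open scoped commutatorElement Pointwise

universe u

variable {Γ : Type u} [Group Γ] [Finite Γ]
variable {T : Sylow 2 Γ} {M L AR : Subgroup Γ} {h : Γ}

theorem factor_bound (l : LSys T M L AR h) (hM : (T : Subgroup Γ) ≤ M) {P Z₀ A : Subgroup Γ}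
    (hPR : P ≤ pCoreOf 2 L) (hPn : L ≤ Subgroup.normalizer (P : Set Γ)) (hZP : Z₀ ≤ P) (hne : Z₀ ≠ P)
    (hZn : L ≤ Subgroup.normalizer (Z₀ : Set Γ)) (hPX : P ≤ ⁅P, oddGenerated L⁆)
    (hsq : ∀ p ∈ P, p * p ∈ Z₀) (hcm : ∀ p ∈ P, ∀ q ∈ P, ⁅p, q⁆ ∈ Z₀) (hA : A ≤ AR) (hAe : Elem2 A) :
    (pCoreOf 2 L).relIndex A ≤ (Subgroup.centralizer (A : Set Γ)).relIndex P := by
  classical
  set R := pCoreOf 2 L with hR
  have hRL : R ≤ L := Large.pCoreOf_le 2 L
  have hPL : P ≤ L := hPR.trans hRL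
  have hPp : IsPGroup 2 P := (isPGroup_pCoreOf L).to_le hPR
  have hXL : oddGenerated L ≤ L := oddGenerated_le L
  obtain ⟨P₁, ⟨hZ₁, h₁P, h₁ne, h₁n⟩, hmax⟩ := Set.exists_max_image {N : Subgroup Γ | Z₀ ≤ N ∧ N ≤ P ∧ N ≠ P ∧
    L ≤ Subgroup.normalizer (N : Set Γ)} (fun N => Nat.card N) (Set.toFinite _) ⟨Z₀, le_rfl, hZP, hne, hZn⟩
  have hRc : R ≤ cmod P₁ P := by
    obtain ⟨N', h₁N, hN'P, hN'ne, hRN, -⟩ := exists_central_factor (isPGroup_pCoreOf L) hPp h₁P h₁ne
      (hRL.trans hPn) (hRL.trans h₁n) (hPL.trans h₁n)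
    set E := ⁅P, R⁆ ⊔ P₁ with hE
    have hEn := le_normalizer_sup (le_normalizer_comm hPn (normalizer_pCoreOf L)) h₁n
    have hEP : E ≤ P := sup_le (comm_le_left (hRL.trans hPn)) h₁P
    have hEN : E ≤ N' := sup_le ((comm_le_iff_cmod fun r hr => (hRN hr).1).2 hRN) h₁N
    have hEe : P₁ = E := Subgroup.eq_of_le_of_card_ge le_sup_right
      (hmax E ⟨hZ₁.trans le_sup_right, hEP, fun e => hN'ne (le_antisymm hN'P (e ▸ hEN)), hEn⟩)
    rw [← comm_le_iff_cmod (hRL.trans h₁n)]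
    exact le_sup_left.trans hEe.ge
  -- the quotient
  haveI hn₁ := (Subgroup.normal_subgroupOf_iff_le_normalizer (h₁P.trans hPL)).2 h₁n
  haveI hnP := (Subgroup.normal_subgroupOf_iff_le_normalizer hPL).2 hPn
  set q := QuotientGroup.mk' (P₁.subgroupOf L) with hq
  have hqs : Function.Surjective q := QuotientGroup.mk'_surjective _
  have hq1 : ∀ g : ↥L, q g = 1 ↔ (g : Γ) ∈ P₁ := fun g => QuotientGroup.eq_one_iff g
  set W := (P.subgroupOf L).map q with hW
  obtain ⟨Pl, hAP, hPM⟩ := l.exists_sylow hM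
  set S := Pl.mapSurjective hqs with hS
  set Mb := ((cj h M).subgroupOf L).map q with hMb
  have hcomap : Mb.comap q = (cj h M).subgroupOf L := by
    rw [hMb, Subgroup.comap_map_eq, sup_eq_left]
    intro g hg
    exact (l.AR_M hM) (l.R_le (hPR (h₁P ((hq1 g).1 (MonoidHom.mem_ker.1 hg)))))
  have hCW : ∀ g : ↥L, q g ∈ Subgroup.centralizer (W : Set (↥L ⧸ P₁.subgroupOf L)) → (g : Γ) ∈ cmod P₁ P := by
    intro g hg
    refine ⟨h₁n g.2, fun p hp => ?_⟩
    have h1 : q ⁅g, ⟨p, hPL hp⟩⁆ = 1 := by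
      rw [map_commutatorElement]
      exact comm_eq_one (Subgroup.mem_centralizer_iff.1 hg _ ⟨_, hp, rfl⟩).symm
    exact (hq1 _).1 h1
  have hKM : L ⊓ cmod P₁ P ≤ cj h M := by
    rcases l.dichotomy hM (inf_le_left : L ⊓ cmod P₁ P ≤ L)
      (le_normalizer_inf Subgroup.le_normalizer (le_cmod_normalizer h₁n hPn)) with h1 | h1
    · exact absurd (le_antisymm h₁P (hPX.trans ((comm_le_iff_cmod (hXL.trans h₁n)).2 (h1.trans inf_le_right)))) h₁ne
    · exact h1
  have act : Act W S Mb := by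
    refine ⟨Subgroup.Normal.map inferInstance q hqs, ⟨⟨⟨?_⟩⟩, ?_⟩, ?_, ?_, ?_, ?_, ?_⟩
    · rintro ⟨_, a, ha, rfl⟩ ⟨_, b, hb, rfl⟩
      refine Subtype.ext ?_
      show q a * q b = q b * q a
      refine commutatorElement_eq_one_iff_mul_comm.1 ?_
      rw [← map_commutatorElement]
      exact (hq1 _).2 (hZ₁ (hcm _ ha _ hb))
    · rintro _ ⟨a, ha, rfl⟩
      rw [← map_pow, pow_two]
      exact (hq1 _).2 (hZ₁ (hsq _ ha))
    · exact Subgroup.map_mono fun g hg => hPM ⟨g, hg, rfl⟩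
    · intro e
      rw [e, Subgroup.comap_top] at hcomap
      exact l.not_le (Subgroup.subgroupOf_eq_top.1 hcomap.symm)
    · intro K hK hne'
      have h1 : (K.comap q).map L.subtype < L := lt_of_le_of_ne (Subgroup.map_subtype_le _) fun e => hne' (by
        rw [← Subgroup.map_comap_eq_self_of_surjective hqs K, ← Subgroup.map_top_of_surjective q hqs]
        refine congrArg _ (eq_top_iff.2 fun g _ => ?_)
        obtain ⟨k, hk, ek⟩ := e.ge g.2
        rwa [Subtype.ext ek] at hk)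
      obtain ⟨A₀, hA₀, hle, hA₀R⟩ := l.exA
      have h2 := l.max A₀ hA₀ hle hA₀R _ ((sup_le hle l.R_le).trans (hAP.trans (Subgroup.map_mono
        fun g hg => hK ⟨g, hg, rfl⟩))) h1
      rw [← Subgroup.map_comap_eq_self_of_surjective hqs K]
      exact Subgroup.map_mono fun g hg => h2 ⟨g, hg, rfl⟩
    · intro y hy
      obtain ⟨g, rfl⟩ := hqs y
      exact ⟨g, hKM ⟨g.2, hCW g hy⟩, rfl⟩
    · intro N hN hNM y hy
      haveI := hN
      obtain ⟨⟨t, ht, rfl⟩, hyN⟩ := hy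
      set N' := (N.comap q).map L.subtype with hN'
      have hN'n : L ≤ Subgroup.normalizer (N' : Set Γ) := fun g hg =>
        Subgroup.le_normalizer_map L.subtype
          ⟨⟨g, hg⟩, by rw [Subgroup.normalizer_eq_top]; exact Subgroup.mem_top _, rfl⟩
      have hN'M : N' ≤ cj h M := by
        rintro _ ⟨g, hg, rfl⟩
        have h3 : g ∈ Mb.comap q := hNM hg
        rw [hcomap] at h3
        exact h3
      have h4 := l.frattini_sylow (Subgroup.map_subtype_le _) hN'n hN'M Pl hAP ⟨⟨t, ht, rfl⟩, ⟨t, hyN, rfl⟩⟩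
      refine Subgroup.mem_centralizer_iff.2 ?_
      rintro _ ⟨p, hp, rfl⟩
      refine (commutatorElement_eq_one_iff_mul_comm.1 ?_).symm
      rw [← map_commutatorElement]
      exact (hq1 _).2 ((hRc h4).2 _ hp)
  set Ab := (A.subgroupOf L).map q with hAb
  have hAS : Ab ≤ (S : Subgroup _) := Subgroup.map_mono fun g hg => by
    obtain ⟨k, hk, ek⟩ := hAP (hA hg)
    rwa [Subtype.ext ek] at hk
  have hb := act.bound hAS (by
    rintro _ ⟨a, ha, rfl⟩
    rw [← map_pow, show a ^ 2 = 1 from Subtype.ext (by rw [pow_two]; exact hAe.2 _ ha), map_one]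
    exact one_mem _) (by
    rintro _ ⟨a, ha, rfl⟩ _ ⟨b, hb, rfl⟩
    rw [← map_mul, show a * b = b * a from Subtype.ext (hAe.1 _ ha _ hb), map_mul, mul_inv_cancel_right,
      mul_inv_cancel]
    exact one_mem _)
  set CW := Subgroup.centralizer (W : Set (↥L ⧸ P₁.subgroupOf L))
  set CA := Subgroup.centralizer (Ab : Set (↥L ⧸ P₁.subgroupOf L))
  have h5 : CW.relIndex Ab ≤ CA.relIndex W := by
    refine (Nat.mul_le_mul_left_iff (Nat.card_pos (α := ↥(W ⊓ CA)))).1 ?_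
    rw [mul_comm, ← Subgroup.inf_relIndex_left W CA, card_mul_relIndex' inf_le_left]
    exact hb
  have hAL : A ≤ L := hA.trans l.AR_L
  have h6 : R.relIndex A ≤ CW.relIndex Ab := by
    rw [hAb, ← Subgroup.relIndex_comap, ← Subgroup.relIndex_subgroupOf hAL]
    refine relIndex_mono_left _ fun g hg => ?_
    exact l.frattini inf_le_left (le_normalizer_inf Subgroup.le_normalizer (le_cmod_normalizer h₁n hPn)) hKM
      ⟨hA hg.2, g.2, hCW g hg.1⟩
  have h7 : CA.relIndex W ≤ (Subgroup.centralizer (A : Set Γ)).relIndex P := by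
    rw [hW, ← Subgroup.relIndex_comap, ← Subgroup.relIndex_subgroupOf hPL]
    refine relIndex_mono_left _ fun g hg => Subgroup.mem_centralizer_iff.2 ?_
    rintro _ ⟨a, ha, rfl⟩
    rw [← map_mul, ← map_mul]
    exact congrArg q (Subtype.ext (Subgroup.mem_centralizer_iff.1 hg.1 _ ha))
  exact (h6.trans h5).trans h7

end CfsgLib.QTPush.Qrc
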