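import Cfsg.Agent.Lib.QTPush.Qrc.Regular

/-!
The conjugate of `V` lies outside the 2-core of the smallest subgroup.
-/

set_option autoImplicit false
set_option linter.unusedSectionVars false
set_option linter.style.haveILetI false

namespace CfsgLib.QTPush.Qrc

open Cfsg CfsgLib
open scoped commutatorElement Pointwise

universe u

variable {Γ : Type u} [Group Γ] [Finite Γ]

theorem relIndex_chain {S S' C : Subgroup Γ} (h : S' ≤ S) (hC : S ⊓ C ≤ S') :
    C.relIndex S = C.relIndex S' * S'.relIndex S := by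
  have h1 := Subgroup.relIndex_mul_relIndex (S ⊓ C) S' S hC h
  rw [Subgroup.inf_relIndex_left] at h1
  rw [← h1, show (S ⊓ C).relIndex S' = C.relIndex S' by
    rw [← Subgroup.inf_relIndex_left S' (S ⊓ C), ← inf_assoc, inf_eq_left.2 h, Subgroup.inf_relIndex_left]]

theorem relIndex_mono_right (C : Subgroup Γ) {D E : Subgroup Γ} (h : D ≤ E) : C.relIndex D ≤ C.relIndex E :=
  Subgroup.relIndex_le_of_le_right h (relIndex_ne_zero' C E)

theorem relIndex_mono_left {C C' : Subgroup Γ} (E : Subgroup Γ) (h : C ⊓ E ≤ C') :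
    C'.relIndex E ≤ C.relIndex E := by
  rw [← Subgroup.inf_relIndex_left E C', ← Subgroup.inf_relIndex_left E C]
  exact Subgroup.relIndex_le_of_le_left (le_inf inf_le_left ((le_inf inf_le_right inf_le_left).trans h))
    (relIndex_ne_zero' _ _)

/-- The count of a competitor. -/
theorem competitor {A U : Subgroup Γ} (hA : Mx A) (hU : Elem2 U) :
    (Subgroup.centralizer (A : Set Γ)).relIndex U ≤ (Subgroup.centralizer (U : Set Γ)).relIndex A := by
  set C := A ⊓ Subgroup.centralizer (U : Set Γ) with hC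
  have hcom : ∀ a ∈ C, ∀ v ∈ U, a * v = v * a := fun a ha v hv => (Subgroup.mem_centralizer_iff.1 ha.2 v hv).symm
  have h1 := hA.2 _ (elem2_sup (elem2_of_le hA.1 inf_le_left) hU hcom)
  have h2 := card_sup_mul_card_inf C U hcom
  have h3 : Nat.card ↥(C ⊓ U) ≤ Nat.card ↥(U ⊓ Subgroup.centralizer (A : Set Γ)) :=
    Subgroup.card_le_of_le fun x hx => ⟨hx.2, Subgroup.mem_centralizer_iff.2 fun a ha => hA.1.1 a ha x hx.1.1⟩
  have h4 : Nat.card C * (Subgroup.centralizer (U : Set Γ)).relIndex A = Nat.card A := by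
    rw [← Subgroup.inf_relIndex_left]; exact card_mul_relIndex' inf_le_left
  have h5 : Nat.card ↥(U ⊓ Subgroup.centralizer (A : Set Γ)) * (Subgroup.centralizer (A : Set Γ)).relIndex U =
      Nat.card U := by
    rw [← Subgroup.inf_relIndex_left]; exact card_mul_relIndex' inf_le_left
  refine (Nat.mul_le_mul_left_iff (Nat.mul_pos (Nat.card_pos (α := ↥C))
    (Nat.card_pos (α := ↥(U ⊓ Subgroup.centralizer (A : Set Γ)))))).1 ?_
  calc Nat.card C * Nat.card ↥(U ⊓ Subgroup.centralizer (A : Set Γ)) * (Subgroup.centralizer (A : Set Γ)).relIndex U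
      = Nat.card ↥(C ⊔ U) * Nat.card ↥(C ⊓ U) := by rw [mul_assoc, h5, h2]
    _ ≤ Nat.card A * Nat.card ↥(U ⊓ Subgroup.centralizer (A : Set Γ)) := Nat.mul_le_mul h1 h3
    _ = _ := by rw [← h4]; ring

namespace Setup

variable {T : Sylow 2 Γ} {M V L AR : Subgroup Γ} {h : Γ} (s : Setup T M V) (l : LSys T M L AR h)
include s l

/-- A member of `𝒜` acting quadratically and nontrivially. -/
theorem exists_quad {U : Subgroup Γ} (hU : Elem2 U) (hUR : U ≤ pCoreOf 2 L)
    (hLU : L ≤ Subgroup.normalizer (U : Set Γ)) (hne : ¬ oddGenerated L ≤ cmod ⊥ U)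
    (hin : ∀ A₀ : Subgroup Γ, Mx A₀ → A₀ ≤ pCoreOf 2 L → A₀ ≤ Subgroup.centralizer (U : Set Γ)) :
    ∃ A : Subgroup Γ, Mx A ∧ A ≤ AR ∧ ¬ A ≤ pCoreOf 2 L ∧
      ∀ w ∈ U, ∀ a ∈ A, ∀ a' ∈ A, ⁅a, w⁆ * a' = a' * ⁅a, w⁆ := by
  obtain ⟨A, hA, hle, hR⟩ := l.exA
  obtain ⟨a, ha, haR⟩ := Set.not_subset.1 hR
  have hAC : ¬ A ≤ Subgroup.centralizer (U : Set Γ) := fun hc => hne
    (l.section_cent s.le_M (norm_bot L) hLU (hle ha) haR (by rw [cmod_bot]; exact hc ha))
  obtain ⟨A₀, hA₀, hle₀, hquad, hne₀⟩ := exists_replacement hU hA ((hle.trans l.AR_L).trans hLU)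
  exact ⟨A₀, hA₀, hle₀.trans (sup_le (hUR.trans l.R_le) hle), fun h => hne₀ hAC (hin A₀ hA₀ h), hquad⟩

/-- **The conjugate of `V` is outside the core.** -/
theorem v_not_in_core : ¬ cj h V ≤ pCoreOf 2 L := by
  classical
  intro hVR
  haveI : Fintype ↥L := Fintype.ofFinite _
  set R := pCoreOf 2 L with hR
  set X := oddGenerated L with hX
  have hRL : R ≤ L := Large.pCoreOf_le 2 L
  have hXL : X ≤ L := oddGenerated_le L
  have hRn : L ≤ Subgroup.normalizer (R : Set Γ) := normalizer_pCoreOf L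
  have hXn : L ≤ Subgroup.normalizer (X : Set Γ) := oddGenerated_normalized L
  let f : ↥L → Subgroup Γ := fun x => cj ((x : Γ) * h) V
  have hfR : ∀ x, f x ≤ R := fun x => by
    show cj ((x : Γ) * h) V ≤ R
    rw [cj_mul]
    exact (cj_mono _ hVR).trans (cj_eq_of_normalizer (hRn x.2)).le
  have hfc : ∀ x y, ∀ a ∈ f x, ∀ b ∈ f y, a * b = b * a := fun x y a ha b hb =>
    (Subgroup.mem_centralizer_iff.1 (s.mutual_v ((hfR x).trans (s.core_cj l y.2)) ((hfR y).trans (s.core_cj l x.2)) ha)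
      b hb).symm
  have hel : ∀ t : Finset ↥L, Elem2 (t.sup f) ∧ ∀ y, t.sup f ≤ Subgroup.centralizer (f y : Set Γ) := by
    intro t
    induction t using Finset.induction_on with
    | empty =>
      refine ⟨⟨fun a ha b hb => ?_, fun a ha => ?_⟩, fun y => by simp⟩
      · rw [Finset.sup_empty, Subgroup.mem_bot] at ha hb; rw [ha, hb]
      · rw [Finset.sup_empty, Subgroup.mem_bot] at ha; rw [ha, one_mul]
    | insert x t hxt ih =>
      rw [Finset.sup_insert]
      exact ⟨elem2_sup (s.velem.cj _) ih.1 fun a ha b hb => Subgroup.mem_centralizer_iff.1 (ih.2 x hb) a ha,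
        fun y => sup_le (fun a ha => Subgroup.mem_centralizer_iff.2 fun b hb => hfc y x b hb a ha) (ih.2 y)⟩
  set U := (Finset.univ : Finset ↥L).sup f with hUdef
  have hU : Elem2 U := (hel _).1
  have hfU : ∀ x, f x ≤ U := fun x => Finset.le_sup (Finset.mem_univ x)
  have hUR : U ≤ R := Finset.sup_le fun x _ => hfR x
  have hVU : cj h V ≤ U := le_trans (le_of_eq (by show cj h V = cj (((1 : ↥L) : Γ) * h) V; simp)) (hfU 1)
  have hLU : L ≤ Subgroup.normalizer (U : Set Γ) := fun g hg => ZJFailure.mem_normalizer_of_forall fun u hu => by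
    have hle : U ≤ U.comap (MulAut.conj g).toMonoidHom := Finset.sup_le fun y _ => by
      rw [← Subgroup.map_le_iff_le_comap]
      refine le_trans (le_of_eq ?_) (hfU (⟨g, hg⟩ * y))
      show cj g (cj ((y : Γ) * h) V) = cj (((⟨g, hg⟩ * y : ↥L) : Γ) * h) V
      rw [← cj_mul, Subgroup.coe_mul, mul_assoc]
    exact hle hu
  have hXU : ¬ X ≤ cmod ⊥ U := fun hc => s.not_normalized l ((l.sup_AR s.le_M).trans (sup_le ?_ (s.AR_norm l)))
  swap
  · rw [cmod_bot] at hc
    exact hc.trans ((Subgroup.centralizer_le hVU).trans (Large.centralizer_le_normalizer _))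
  obtain ⟨A, hA, hle, hAR, hquad⟩ := s.exists_quad l hU hUR hLU hXU fun A₀ hA₀ hA₀R a ha =>
    Subgroup.mem_centralizer_iff.2 fun u hu =>
      hA₀.1.1 u ((Finset.sup_le fun x _ => s.mx_v hA₀ (hA₀R.trans (s.core_cj l x.2)) : U ≤ A₀) hu) a ha
  set S := A ⊓ R with hS
  set cS := Subgroup.centralizer (S : Set Γ) with hcS
  -- the chain over the conjugates
  have chain : ∀ t : Finset ↥L, (Subgroup.centralizer ((t.sup f : Subgroup Γ) : Set Γ)).relIndex S = 1 ∨
      (Subgroup.centralizer ((t.sup f : Subgroup Γ) : Set Γ)).relIndex S ^ 2 < cS.relIndex (t.sup f) := by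
    intro t
    induction t using Finset.induction_on with
    | empty =>
      left
      rw [Subgroup.relIndex_eq_one]
      exact fun y _ => Subgroup.mem_centralizer_iff.2 fun z hz => by
        have hz' : z = 1 := by simpa using hz
        rw [hz', one_mul, mul_one]
    | insert x t hxt ih =>
      rw [Finset.sup_insert]
      set U₁ := t.sup f
      set U₂ := f x ⊔ U₁
      set S' := S ⊓ Subgroup.centralizer (U₁ : Set Γ)
      have h12 : U₁ ≤ U₂ := le_sup_right
      have hC2 : S ⊓ Subgroup.centralizer (U₂ : Set Γ) ≤ S' := inf_le_inf_left _ (Subgroup.centralizer_le h12)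
      have hmul := relIndex_chain (inf_le_left : S' ≤ S) hC2
      rw [Subgroup.inf_relIndex_left] at hmul
      by_cases hfix : S' ≤ Subgroup.centralizer (f x : Set Γ)
      · have h1 : (Subgroup.centralizer (U₂ : Set Γ)).relIndex S' = 1 := Subgroup.relIndex_eq_one.2 fun y hy =>
          Subgroup.le_centralizer_iff.1 (sup_le (Subgroup.le_centralizer_iff.1 hfix)
            (Subgroup.le_centralizer_iff.1 inf_le_right) : U₂ ≤ Subgroup.centralizer (S' : Set Γ)) hy
        rw [hmul, h1, one_mul]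
        rcases ih with e | e
        · exact Or.inl e
        · exact Or.inr (e.trans_le (relIndex_mono_right cS h12))
      right
      have hlt := s.hq_at (h := (x : Γ) * h) (B := S')
        ((inf_le_left.trans inf_le_right).trans (s.core_cj l x.2)) hfix fun v hv b hb b' hb' =>
        hquad v (hfU x hv) b hb.1.1 b' hb'.1.1
      rw [Subgroup.inf_relIndex_left] at hlt
      set cS' := Subgroup.centralizer (S' : Set Γ)
      have hU₁ : U₁ ≤ cS' := Subgroup.le_centralizer_iff.1 inf_le_right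
      have hmulU : cS.relIndex U₂ = cS.relIndex (U₂ ⊓ cS') * (U₂ ⊓ cS').relIndex U₂ :=
        relIndex_chain inf_le_left (inf_le_inf_left _ (Subgroup.centralizer_le (inf_le_left : S' ≤ S)))
      rw [Subgroup.inf_relIndex_left] at hmulU
      have h1 : (Subgroup.centralizer (U₂ : Set Γ)).relIndex S' =
          (Subgroup.centralizer (f x : Set Γ)).relIndex S' := le_antisymm
        (relIndex_mono_left S' fun y hy => Subgroup.le_centralizer_iff.1 (sup_le
          (Subgroup.le_centralizer_iff.1 inf_le_left) (hU₁.trans (Subgroup.centralizer_le inf_le_right)) :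
          U₂ ≤ Subgroup.centralizer (Subgroup.centralizer (f x : Set Γ) ⊓ S' : Set Γ)) hy)
        (relIndex_mono_left S' (inf_le_left.trans (Subgroup.centralizer_le (show f x ≤ U₂ from le_sup_left))))
      have h2 : cS'.relIndex (f x) ≤ cS'.relIndex U₂ := relIndex_mono_right _ le_sup_left
      have h3 : cS.relIndex U₁ ≤ cS.relIndex (U₂ ⊓ cS') := relIndex_mono_right _ (le_inf h12 hU₁)
      have h4 : (Subgroup.centralizer (U₁ : Set Γ)).relIndex S ^ 2 ≤ cS.relIndex U₁ := by
        rcases ih with e | e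
        · rw [e, one_pow]; exact Nat.one_le_iff_ne_zero.2 (relIndex_ne_zero' _ _)
        · exact e.le
      have h5 : 0 < (Subgroup.centralizer (U₁ : Set Γ)).relIndex S := Nat.pos_of_ne_zero (relIndex_ne_zero' _ _)
      rw [hmul, h1, hmulU]
      calc ((Subgroup.centralizer (f x : Set Γ)).relIndex S' * (Subgroup.centralizer (U₁ : Set Γ)).relIndex S) ^ 2
          = (Subgroup.centralizer (f x : Set Γ)).relIndex S' ^ 2 *
              (Subgroup.centralizer (U₁ : Set Γ)).relIndex S ^ 2 := mul_pow _ _ _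
        _ < cS'.relIndex (f x) * (Subgroup.centralizer (U₁ : Set Γ)).relIndex S ^ 2 :=
            Nat.mul_lt_mul_of_pos_right hlt (pow_pos h5 2)
        _ ≤ cS'.relIndex U₂ * cS.relIndex (U₂ ⊓ cS') := Nat.mul_le_mul h2 (h4.trans h3)
        _ = cS.relIndex (U₂ ⊓ cS') * cS'.relIndex U₂ := mul_comm _ _
  set cA := Subgroup.centralizer (A : Set Γ) with hcA
  have hsmall : cA.relIndex U < R.relIndex A ^ 2 := by
    have h1 : A ⊓ Subgroup.centralizer (U : Set Γ) ≤ S := fun a ha => ⟨ha.1, by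
      by_contra haR
      exact hXU (l.section_cent s.le_M (norm_bot L) hLU (hle ha.1) haR (by rw [cmod_bot]; exact ha.2))⟩
    have h2 := relIndex_chain (inf_le_left : S ≤ A) h1
    have hSA : S.relIndex A = R.relIndex A := Subgroup.inf_relIndex_left A R
    rw [hSA] at h2
    have h3 := competitor hA hU
    rw [h2] at h3
    have ha1 : R.relIndex A ≠ 1 := fun e => hAR (Subgroup.relIndex_eq_one.1 e)
    have ha0 := relIndex_ne_zero' R A
    rcases chain Finset.univ with e | e
    · rw [e, one_mul] at h3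
      nlinarith [show 2 ≤ R.relIndex A by omega]
    · have h4 : cS.relIndex U ≤ cA.relIndex U := relIndex_mono_left U
        (inf_le_left.trans (Subgroup.centralizer_le (inf_le_left : S ≤ A)))
      nlinarith
  have hsect : ∀ {W₀ W : Subgroup Γ}, Sect L W₀ W → W ≤ U → R.relIndex A ≤ (Sect.c1 W₀ W A).relIndex W :=
    fun {W₀ W} e hW => Sect.index_le e l s.le_M hA hle hAR fun w hw a ha a' ha' => by
      rw [comm_eq_one (hquad w (hW hw) a ha a' ha').symm]; exact one_mem _
  have hfix : ∀ {W₀ W : Subgroup Γ}, W ≤ Subgroup.normalizer (W₀ : Set Γ) → W ⊓ cA ≤ Sect.c1 W₀ W A :=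
    fun {W₀ W} hn u hu => ⟨hu.1, hn hu.1, fun a ha => by
      rw [comm_eq_one (Subgroup.mem_centralizer_iff.1 hu.2 a ha).symm]; exact one_mem _⟩
  obtain ⟨W₀, W, e, -, hWU, hXW₀, hgen, hminW⟩ := exists_sect hU hLU bot_le (norm_bot L) hXU
  rw [sup_bot_eq] at hgen
  have hWn : ∀ {D E : Subgroup Γ}, D ≤ U → E ≤ U → D ≤ Subgroup.normalizer (E : Set Γ) := fun hD hE =>
    le_normalizer_of_comm fun a ha b hb => hU.1 a (hD ha) b (hE hb)
  -- `W = [U, O²]`
  have hXW : X ≤ cmod W U := by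
    by_contra hne
    obtain ⟨W₀', W', e', hb', hW'U, -, -, -⟩ := exists_sect hU hLU hWU e.n1 hne
    have h1 : W ≤ Sect.c1 W₀' W' A := hb'.trans (Sect.W0_le_c1 e' l s.le_M hA hle hAR fun w hw a ha a' ha' => by
      rw [comm_eq_one (hquad w (hW'U hw) a ha a' ha').symm]; exact one_mem _)
    have h2 := relIndex_chain (C := cA) (inf_le_left : Sect.c1 W₀' W' A ≤ W')
      (hfix (hWn hW'U (e'.le.trans hW'U)))
    have h3 := hsect e' hW'U
    have h4 : R.relIndex A ≤ cA.relIndex (Sect.c1 W₀' W' A) :=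
      ((hsect e hWU).trans (relIndex_mono_left W (inf_comm cA W ▸ hfix (hWn hWU (e.le.trans hWU))))).trans
        (relIndex_mono_right cA h1)
    have h5 : R.relIndex A ^ 2 ≤ cA.relIndex U := by
      refine le_trans ?_ (relIndex_mono_right cA hW'U)
      rw [h2, pow_two]
      exact Nat.mul_le_mul h4 h3
    omega
  -- `B = [R, O²]`
  set B := ⁅R, X⁆ with hB
  have hBn : L ≤ Subgroup.normalizer (B : Set Γ) := le_normalizer_comm hRn hXn
  have hBR : B ≤ R := comm_le_left (hXL.trans hRn)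
  have hBX : B ≤ X := by
    rw [hB, Subgroup.commutator_comm]
    exact comm_le_left (hRL.trans hXn)
  have hBW₀ : ∀ {b w : Γ}, b ∈ B → w ∈ W₀ → b * w = w * b := fun hb hw =>
    (Subgroup.mem_centralizer_iff.1 (cmod_bot W₀ ▸ hXW₀ (hBX hb)) _ hw).symm
  set V' := cj h V with hV'
  have hVA : V' ≤ A := s.v_le l hA hle
  set N₁ := ⁅V', B⁆ ⊔ W₀ with hN₁
  have hN₁W : N₁ ≤ W := sup_le (Subgroup.commutator_le.2 fun v hv b hb =>
    comm_swap_mem ((hXW (hBX hb)).2 v (hVU hv))) e.le
  have hN₁n : L ≤ Subgroup.normalizer (N₁ : Set Γ) := by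
    refine (l.sup_AR s.le_M).trans (sup_le (fun x hx => ZJFailure.mem_normalizer_of_forall fun y hy => ?_)
      (le_normalizer_sup (le_normalizer_comm (s.AR_norm l) (l.AR_L.trans hBn)) (l.AR_L.trans e.n0)))
    have hle' : N₁ ≤ N₁.comap (MulAut.conj x).toMonoidHom := by
      refine sup_le (Subgroup.commutator_le.2 fun v hv b hb => ?_) fun w hw =>
        Subgroup.mem_sup_right (norm_conj e.n0 (hXL hx) hw)
      show x * ⁅v, b⁆ * x⁻¹ ∈ N₁
      have hb' := norm_conj hBn (hXL hx) hb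
      have hw : ⁅x, v⁆ ∈ W := (hXW hx).2 v (hVU hv)
      have hvb : ⁅v, x * b * x⁻¹⁆ ∈ U := hWU (comm_swap_mem ((hXW (hBX hb')).2 v (hVU hv)))
      rw [comm_conj, show x * v * x⁻¹ = ⁅x, v⁆ * v by simp only [commutatorElement_def]; group, comm_mul_left,
        hU.1 _ (hWU hw) _ hvb, mul_inv_cancel_right]
      exact mul_mem (Subgroup.mem_sup_left (Subgroup.commutator_mem_commutator hv hb'))
        (Subgroup.mem_sup_right (comm_swap_mem ((e.core (hBR hb')).2 _ hw)))
    exact hle' hy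
  have hBU : B ≤ cmod W₀ U := by
    have hVB : ∀ v ∈ V', ∀ b ∈ B, ⁅v, b⁆ ∈ W₀ := by
      intro v hv b hb
      obtain ⟨a, ha, haR⟩ := Set.not_subset.1 hAR
      have h1 : N₁ ≤ cmod W₀ A := sup_le (Subgroup.commutator_le.2 fun v' hv' b' hb' => by
        have hm : ⁅v', b'⁆ ∈ V' := comm_mem_left ((s.AR_norm l) (l.R_le (hBR hb'))) hv'
        refine ⟨hWn hVU (e.le.trans hWU) hm, fun a' ha' => ?_⟩
        rw [comm_eq_one (hA.1.1 _ (hVA hm) a' ha')]
        exact one_mem _) fun w hw => ⟨Subgroup.le_normalizer hw, fun a' ha' =>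
          comm_mem_left (e.n0 (l.AR_L (hle ha'))) hw⟩
      have h2 := l.section_cent s.le_M e.n0 hN₁n (hle ha) haR (le_cmod_symm ((hle.trans l.AR_L).trans e.n0) h1 ha)
      exact e.fpf _ (hN₁W (Subgroup.mem_sup_left (Subgroup.commutator_mem_commutator hv hb)))
        fun x hx => (h2 hx).2 _ (Subgroup.mem_sup_left (Subgroup.commutator_mem_commutator hv hb))
    refine le_cmod_symm ((hBR.trans hRL).trans e.n0) ?_
    refine Finset.sup_le fun x _ => ?_
    rintro _ ⟨v, hv, rfl⟩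
    refine ⟨hWn le_rfl (e.le.trans hWU) (hfU x ⟨v, hv, rfl⟩), fun b hb => ?_⟩
    have hb' := norm_conj hBn (inv_mem x.2) hb
    have h1 := norm_conj e.n0 x.2 (hVB _ (conj_mem_cj hv) _ hb')
    rw [comm_conj] at h1
    simpa [mul_assoc] using h1
  set Y := ⁅W, B⁆ with hY
  have hY₀ : Y ≤ W₀ := Subgroup.commutator_le.2 fun w hw b hb => comm_swap_mem ((hBU hb).2 w (hWU hw))
  have hXfix : ∀ x ∈ X, ∀ w ∈ W₀, x * w = w * x := fun x hx w hw =>
    (Subgroup.mem_centralizer_iff.1 (cmod_bot W₀ ▸ hXW₀ hx) w hw).symm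
  have hYne : Y ≠ ⊥ := fun e0 => by
    have h3 : ⁅⁅W, X⁆, R⁆ = ⊥ := by
      refine Subgroup.commutator_commutator_eq_bot_of_rotate ?_ ?_
      · rw [Subgroup.commutator_comm X R, ← hB, Subgroup.commutator_comm B W]; exact e0
      · rw [Subgroup.commutator_eq_bot_iff_le_centralizer, Subgroup.commutator_comm R W]
        refine ((comm_le_iff_cmod (hRL.trans e.n0)).2 e.core).trans fun w hw => ?_
        exact Subgroup.mem_centralizer_iff.2 fun x hx => hXfix x hx w hw
    have h4 : W ≤ Subgroup.centralizer (R : Set Γ) :=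
      hgen.trans (Subgroup.commutator_eq_bot_iff_le_centralizer.1 h3)
    refine e.ne fun w hw => e.fpf w hw fun x hx => ?_
    have hwc := Subgroup.centralizer_le l.Q_core (h4 hw)
    have hwY : w ∈ omegaOneCenter 2 (pCore 2 Γ) :=
      Subgroup.subset_closure ⟨⟨s.char2 hwc, hwc⟩, by rw [pow_two]; exact hU.2 w (hWU hw)⟩
    have hle : X ≤ Subgroup.centralizer {w} := (Subgroup.closure_le _).2 fun x' hx' =>
      Subgroup.mem_centralizer_singleton_iff.2 (s.odd_fix hx'.2 hwY)
    rw [comm_eq_one (Subgroup.mem_centralizer_singleton_iff.1 (hle hx))]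
    exact one_mem _
  -- an invariant hyperplane
  have hYe : Elem2 Y := elem2_of_le hU (hY₀.trans (e.le.trans hWU))
  have hYn : L ≤ Subgroup.normalizer (Y : Set Γ) := le_normalizer_comm e.n1 hBn
  obtain ⟨N', -, hN'Y, hN'ne, hPN', -⟩ := exists_central_factor l.AR_p (isPGroup_elem2 hYe) bot_le (Ne.symm hYne)
    (l.AR_L.trans hYn) (norm_bot AR) (norm_bot Y)
  obtain ⟨y, hy, hyN'⟩ := Set.not_subset.1 fun hh => hN'ne (le_antisymm hN'Y hh)
  obtain ⟨Ns, hNs, hNsW, hyNs, hiff⟩ := exists_hyperplane (elem2_of_le hU (e.le.trans hWU)) (hN'Y.trans hY₀)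
    (hY₀ hy) hyN'
  set N := Ns ⊓ Y with hN
  have hNn : L ≤ Subgroup.normalizer (N : Set Γ) := by
    refine (l.sup_AR s.le_M).trans (sup_le (fun x hx => ?_) fun g hg => ?_)
    · refine ZJFailure.mem_normalizer_of_forall fun n hn => ?_
      rw [hXfix x hx n (hY₀ hn.2), mul_inv_cancel_right]
      exact hn
    · exact (mem_cmod_of_le inf_le_right fun w hw => ⟨hNs ((hPN' hg).2 w hw), hN'Y ((hPN' hg).2 w hw)⟩ :
        g ∈ cmod N Y).1
  have hS0 : W ⊓ cmod N B ≤ W₀ := by
    refine hminW _ bot_le inf_le_left (le_normalizer_inf e.n1 (le_cmod_normalizer hNn hBn)) fun e' => ?_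
    refine hyNs ((?_ : Y ≤ N) hy).1
    refine Subgroup.commutator_le.2 fun w hw b hb => ?_
    exact ((e'.ge hw).2.2 b hb)
  have hNsn : ∀ g ∈ B, g ∈ Subgroup.normalizer (Ns : Set Γ) := fun g hg =>
    ZJFailure.mem_normalizer_of_forall fun n hn => by
      rw [hBW₀ hg (hNsW hn), mul_inv_cancel_right]; exact hn
  have hK : ∀ u ∈ U, (∀ b ∈ B, ⁅u, b⁆ ∈ Ns) → ∀ b ∈ B, u * b = b * u := by
    intro u hu hub
    have hux : ∀ x ∈ L, Odd (orderOf x) → ⁅x, u⁆ = 1 := fun x hx ho => by
      have hxX : x ∈ X := odd_mem hx ho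
      have hw : ⁅x, u⁆ ∈ W := (hXW hxX).2 u hu
      have hK' : ⁅x, u⁆ ∈ W ⊓ cmod N B := by
        refine ⟨hw, ?_, fun b hb => ⟨?_, Subgroup.commutator_mem_commutator hw hb⟩⟩
        · exact le_normalizer_of_comm (fun a ha b' hb' => hU.1 a ha b'
            ((inf_le_right : N ≤ Y).trans (hY₀.trans (e.le.trans hWU)) hb')) (hWU hw)
        have hb0 := norm_conj hBn (inv_mem hx) hb
        have h1 : x * ⁅u, x⁻¹ * b * x⁻¹⁻¹⁆ * x⁻¹ = ⁅u, x⁻¹ * b * x⁻¹⁻¹⁆ := by
          rw [hXfix x hxX _ (comm_swap_mem ((hBU hb0).2 u hu)), mul_inv_cancel_right]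
        have h2 : ⁅x * u * x⁻¹, b⁆ ∈ Ns := by
          have := hub _ hb0
          rw [← h1, comm_conj] at this
          simpa [mul_assoc] using this
        have hub' : ⁅u⁻¹, b⁆ ∈ Ns := by rw [show u⁻¹ = u from elem2_inv hU hu]; exact hub b hb
        rw [show ⁅x, u⁆ = x * u * x⁻¹ * u⁻¹ by rw [commutatorElement_def], comm_mul_left,
          hU.1 _ (norm_conj hLU hx hu) _ ((e.le.trans hWU) (hNsW hub')), mul_inv_cancel_right]
        exact mul_mem hub' h2
      exact Subgroup.mem_bot.1 (odd_chain (norm_bot L hx) (norm_bot U hu) ho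
        ⟨1, by rw [pow_one, pow_two, hU.2 _ (hWU hw)]; exact one_mem _⟩
        ((hXW₀ hxX).2 _ (hS0 hK')))
    have hle : X ≤ Subgroup.centralizer {u} := (Subgroup.closure_le _).2 fun x hx =>
      Subgroup.mem_centralizer_singleton_iff.2 (commutatorElement_eq_one_iff_mul_comm.1 (hux x hx.1 hx.2))
    exact fun b hb => (Subgroup.mem_centralizer_singleton_iff.1 (hle (hBX hb))).symm
  have hWv : ∀ v ∈ V', ∀ b ∈ B, ⁅v, b⁆ ∈ W₀ := fun v hv b hb => comm_swap_mem ((hBU hb).2 v (hVU hv))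
  have hpair : (Subgroup.centralizer (B : Set Γ)).relIndex V' ≤ (Subgroup.centralizer (V' : Set Γ)).relIndex B := by
    refine pair_le (fun v b => ⁅v, b⁆ ∈ Ns) (fun v hv v' hv' b hb => ?_) (fun v hv b hb b' hb' => ?_)
      (fun v hv hall => Subgroup.mem_centralizer_iff.2 fun b hb => (hK v (hVU hv) hall b hb).symm)
      (fun v hv b hb hbc => by rw [comm_eq_one (Subgroup.mem_centralizer_iff.1 hbc v hv)]; exact one_mem _)
    · have h1 : ⁅v', b⁆ ∈ U := (e.le.trans hWU) (hWv v' hv' b hb)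
      rw [comm_mul_left, hU.1 _ (hVU hv) _ h1, mul_inv_cancel_right, hiff _ (hWv v' hv' b hb) _ (hWv v hv b hb)]
      exact iff_comm
    · rw [comm_mul_right, hBW₀ hb (hWv v hv b' hb'), mul_inv_cancel_right, hiff _ (hWv v hv b hb) _ (hWv v hv b' hb')]
  have hBne : ¬ B ≤ Subgroup.centralizer (V' : Set Γ) := fun hc => hYne (by
    rw [hY, Subgroup.commutator_eq_bot_iff_le_centralizer]
    refine hWU.trans (Finset.sup_le fun x _ => Subgroup.le_centralizer_iff.1 fun b hb => ?_)
    have h1 := hc (norm_conj hBn (inv_mem x.2) hb)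
    show b ∈ Subgroup.centralizer (cj ((x : Γ) * h) V : Set Γ)
    rw [cj_mul, ← hV', ← cj_centralizer]
    refine mem_cj.2 ?_
    simpa using h1)
  have hlt := s.hq_at (h := h) (B := B) ((hBR.trans l.R_le).trans l.AR_le) hBne fun v hv b hb b' hb' =>
    (hBW₀ hb' (comm_swap_mem (hWv v hv b hb))).symm
  rw [Subgroup.inf_relIndex_left] at hlt
  nlinarith

end Setup

end CfsgLib.QTPush.Qrc
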