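import Cfsg.Agent.Lib.QTPush.Common
import Cfsg.Agent.Lib.QTPush.Qrc.CaseB

/-!
The lemma on the parameters q, r, c.
-/

set_option autoImplicit false
set_option linter.unusedSectionVars false

namespace CfsgLib.QTPush.Qrc

open Cfsg CfsgLib CfsgLib.BlockPush
open scoped commutatorElement Pointwise

universe u

variable {G : Type u} [Group G] [Finite G]

theorem thompson_between (T : Sylow 2 G) {R : Subgroup G} (hR : thompsonSubgroupOf 2 (T : Subgroup G) ≤ R)
    (hRT : R ≤ (T : Subgroup G)) : thompsonSubgroupOf 2 R = thompsonSubgroupOf 2 (T : Subgroup G) := by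
  have hne := mx_nonempty (p := 2) T
  have hsub : ∀ A ∈ mx 2 (T : Subgroup G), A ∈ mx 2 R := fun A hA =>
    ⟨hA.1, (le_trans (by rw [thompsonOf_eq_sSup hne]; exact le_sSup hA) hR)⟩
  have heq : mx 2 R = mx 2 (T : Subgroup G) := Set.Subset.antisymm (fun A hA => ⟨hA.1, hA.2.trans hRT⟩) hsub
  rw [thompsonOf_eq_sSup (heq ▸ hne), thompsonOf_eq_sSup hne, heq]

theorem thompson_normalized {H R : Subgroup G} (hn : H ≤ Subgroup.normalizer (R : Set G)) :
    H ≤ Subgroup.normalizer (thompsonSubgroupOf 2 R : Set G) := fun g hg => by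
  have h1 := hn hg
  rw [Subgroup.mem_normalizer_iff_map_conj_eq] at h1 ⊢
  exact (PLocal.thompsonSubgroupOf_map (p := 2) (S := R) (MulAut.conj g).toMonoidHom
    (fun _ _ _ _ h => (MulAut.conj g).injective h)).trans (congrArg (thompsonSubgroupOf 2) h1)

theorem unique_max (T : Sylow 2 G) {M H : Subgroup G} (hTM : (T : Subgroup G) ≤ M) (hH : H ∈ calHMin (T : Subgroup G) M) :
    ∃! K : Subgroup ↥H, IsCoatom K ∧ (T : Subgroup G).subgroupOf H ≤ K := by
  obtain ⟨⟨⟨hne, hTH⟩, hHM⟩, hmin⟩ := hH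
  have hbig : ∀ K : Subgroup ↥H, K ≠ ⊤ → (T : Subgroup G).subgroupOf H ≤ K → K ≤ M.subgroupOf H := by
    intro K hK hTK
    by_contra hKM
    set K' := K.map H.subtype with hK'
    have hTK' : (T : Subgroup G) ≤ K' := fun t ht => ⟨⟨t, hTH ht⟩, hTK ht, rfl⟩
    have hK'M : ¬ K' ≤ M := fun h => hKM fun k hk => h ⟨k, hk, rfl⟩
    have hQK : pCoreOf 2 H ≤ pCoreOf 2 K' := le_pCoreOf ((pCoreOf_le_sylow T hTH).trans hTK')
      ((Subgroup.map_subtype_le K).trans (normalizer_pCoreOf H)) (isPGroup_pCoreOf H)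
    have hK'ne : pCore 2 ↥K' ≠ ⊥ := fun e => hne (by
      refine (Subgroup.map_eq_bot_iff_of_injective _ H.subtype_injective).1 (le_bot_iff.1 (hQK.trans ?_))
      show (pCore 2 ↥K').map K'.subtype ≤ ⊥
      rw [e, Subgroup.map_bot])
    have h := hmin K' ⟨⟨hK'ne, hTK'⟩, hK'M⟩ (Subgroup.map_subtype_le K)
    refine hK (eq_top_iff.2 fun x _ => ?_)
    obtain ⟨k, hk, e⟩ := h.ge x.2
    rwa [H.subtype_injective e] at hk
  have hMne : M.subgroupOf H ≠ ⊤ := fun e => hHM (Subgroup.subgroupOf_eq_top.1 e)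
  have hTM' : (T : Subgroup G).subgroupOf H ≤ M.subgroupOf H := fun t ht => hTM ht
  refine ⟨M.subgroupOf H, ⟨⟨hMne, fun Z hlt => ?_⟩, hTM'⟩, fun K hK => ?_⟩
  · by_contra hZ
    exact hlt.not_ge (hbig Z hZ (hTM'.trans hlt.le))
  · exact ((hK.1.le_iff).1 (hbig K hK.1.1 hK.2)).resolve_left hMne |>.symm

/-- Conjugates of members of `𝒜(T)` are global: the maximum is attained in every Sylow subgroup. -/
theorem mx_iff (T : Sylow 2 G) {A : Subgroup G} (h : A ∈ mx 2 (T : Subgroup G)) : Mx A :=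
  ⟨elem2_iff.1 h.1.1, fun E hE => h.1.2 E (elem2_iff.2 hE)⟩

theorem comap_centralizer {H : Subgroup G} {X : Subgroup ↥H} :
    (Subgroup.centralizer ((X.map H.subtype : Subgroup G) : Set G)).comap H.subtype =
      Subgroup.centralizer (X : Set ↥H) := by
  ext y
  refine ⟨fun hy => Subgroup.mem_centralizer_iff.2 fun x hx => Subtype.ext
    (Subgroup.mem_centralizer_iff.1 hy _ ⟨x, hx, rfl⟩), fun hy => Subgroup.mem_centralizer_iff.2 ?_⟩
  rintro _ ⟨x, hx, rfl⟩
  exact congrArg Subtype.val (Subgroup.mem_centralizer_iff.1 hy x hx)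

theorem induces_map {H : Subgroup G} {B V : Subgroup ↥H} :
    InducesElemAbelianTwoGroupOn (B.map H.subtype) (V.map H.subtype) ↔ InducesElemAbelianTwoGroupOn B V := by
  have hmem : ∀ y : ↥H, (y : G) ∈ Subgroup.centralizer ((V.map H.subtype : Subgroup G) : Set G) ↔
      y ∈ Subgroup.centralizer (V : Set ↥H) := fun y => by rw [← comap_centralizer]; rfl
  refine ⟨fun ⟨h1, h2, h3⟩ => ⟨fun h => h1 ?_, fun b hb => ?_, fun b hb b' hb' => ?_⟩,
    fun ⟨h1, h2, h3⟩ => ⟨fun h => h1 fun b hb => (hmem b).1 (h ⟨b, hb, rfl⟩), ?_, ?_⟩⟩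
  · rintro _ ⟨b, hb, rfl⟩
    exact (hmem b).2 (h hb)
  · exact (hmem _).1 (h2 (b : G) ⟨b, hb, rfl⟩)
  · exact (hmem _).1 (h3 (b : G) ⟨b, hb, rfl⟩ (b' : G) ⟨b', hb', rfl⟩)
  · rintro _ ⟨b, hb, rfl⟩
    exact (hmem (b ^ 2)).2 (h2 b hb)
  · rintro _ ⟨b, hb, rfl⟩ _ ⟨b', hb', rfl⟩
    exact (hmem (b * b' * b⁻¹ * b'⁻¹)).2 (h3 b hb b' hb')

theorem index_map {H : Subgroup G} (B V : Subgroup ↥H) :
    (V.map H.subtype ⊓ Subgroup.centralizer ((B.map H.subtype : Subgroup G) : Set G)).relIndex (V.map H.subtype) =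
        (V ⊓ Subgroup.centralizer (B : Set ↥H)).relIndex V ∧
      (Subgroup.centralizer ((V.map H.subtype : Subgroup G) : Set G)).relIndex (B.map H.subtype) =
        (Subgroup.centralizer (V : Set ↥H)).relIndex B := by
  refine ⟨?_, ?_⟩
  · rw [inf_centralizer_map_inj H.subtype_injective, Subgroup.relIndex_map_map_of_injective _ _ H.subtype_injective]
  · rw [← Subgroup.relIndex_comap, comap_centralizer]

/-- **The lemma.** -/
theorem qrc (hev : IsOfEvenCharacteristic G) (T : Sylow 2 G) {M M₀ H V : Subgroup G}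
    (hTM : (T : Subgroup G) ≤ M) (hTM₀ : (T : Subgroup G) ≤ M₀) (hH : H ∈ calHMin (T : Subgroup G) M)
    (hVM : V ≤ M₀) (hMV : M₀ ≤ Subgroup.normalizer (V : Set G)) (hVe : IsElementaryAbelian 2 V)
    (hR : pCoreOf 2 M₀ = (T : Subgroup G) ⊓ Subgroup.centralizer (V : Set G)) :
    (∃ R₀ : Subgroup G, R₀ ≠ ⊥ ∧ R₀ ≤ pCoreOf 2 M₀ ∧ M₀ ⊔ H ≤ Subgroup.normalizer (R₀ : Set G)) ∨
      (¬ V ≤ pCoreOf 2 H ∧ CubicParamLE M₀ V 2) ∨ QuadParamLE M₀ V 2 := by
  classical
  refine or_iff_not_imp_left.2 fun h1 => or_iff_not_imp_right.2 fun h3 => ?_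
  have hne : pCore 2 ↥H ≠ ⊥ := hH.1.1.1
  have hTH : (T : Subgroup G) ≤ H := hH.1.1.2
  have hU := unique_max T hTM hH
  obtain ⟨MH, v⟩ := exists_env hev T hTH hne hU
  set RM := pCoreOf 2 M₀ with hRM
  have hTne : (T : Subgroup G) ≠ ⊥ := fun e => hne
    ((Subgroup.map_eq_bot_iff_of_injective _ H.subtype_injective).1 (le_bot_iff.1 (e ▸ pCoreOf_le_sylow T hTH)))
  have hRS : ∃ P : Sylow 2 ↥(oddGenerated H ⊔ (T : Subgroup G)),
      (P : Subgroup ↥(oddGenerated H ⊔ (T : Subgroup G))) = (T : Subgroup G).subgroupOf (oddGenerated H ⊔ (T : Subgroup G)) :=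
    ⟨T.subtype le_sup_right, Sylow.coe_subtype ..⟩
  have hMRM : M₀ ≤ Subgroup.normalizer (RM : Set G) := normalizer_pCoreOf M₀
  by_cases hV0 : V = ⊥
  · have hRT : RM = (T : Subgroup G) := by
      rw [hR, inf_eq_left, hV0]
      exact fun t _ => Subgroup.mem_centralizer_iff.2 fun z hz => by
        rw [SetLike.mem_coe, Subgroup.mem_bot] at hz; rw [hz, one_mul, mul_one]
    obtain ⟨R₀, a, b, c⟩ := common hev T hTM₀ hTH hne hU hTne le_rfl hRS (hRT ▸ hMRM)
    exact absurd ⟨R₀, a, b.trans hRT.ge, c⟩ h1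
  have hVe2 : Elem2 V := elem2_iff.1 hVe
  have hVR : V ≤ RM := le_pCoreOf hVM hMV (isPGroup_elem2 hVe2)
  have hVT : V ≤ (T : Subgroup G) := hVR.trans (hR.le.trans inf_le_left)
  have hTV : (T : Subgroup G) ≤ Subgroup.normalizer (V : Set G) := hTM₀.trans hMV
  have hVn : ¬ H ≤ Subgroup.normalizer (V : Set G) := fun h => h1 ⟨V, hV0, hVR, sup_le hMV h⟩
  have hq : ∀ B : Subgroup G, B ≤ (T : Subgroup G) → InducesElemAbelianTwoGroupOn B V → ⁅⁅V, B⁆, B⁆ = ⊥ →
      (Subgroup.centralizer (V : Set G)).relIndex B ^ 2 < (V ⊓ Subgroup.centralizer (B : Set G)).relIndex V :=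
    fun B hB hi hb => not_le.1 fun hle => h3 ⟨B, hB.trans hTM₀, hi, hb, hle⟩
  -- `V` lies in every member of `𝒜(T)`
  have hVA : ∀ A ∈ mx 2 (T : Subgroup G), V ≤ A ∧ A ≤ Subgroup.centralizer (V : Set G) := fun A hA => by
    have h := le_mx hVe2 (mx_iff T hA) (hA.2.trans hTV) fun B hB hne' hquad =>
      hq B (hB.trans (sup_le hVT hA.2)) (induces_of_quad hVe2 ((hB.trans (sup_le hVT hA.2)).trans hTV) hquad hne')
        (comm2_eq_bot hquad)
    exact ⟨h, fun a ha => Subgroup.mem_centralizer_iff.2 fun x hx => (mx_iff T hA).1.1 x (h hx) a ha⟩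
  set J := thompsonSubgroupOf 2 (T : Subgroup G) with hJdef
  have hJC : J ≤ Subgroup.centralizer (V : Set G) := by
    rw [hJdef, thompsonOf_eq_sSup (mx_nonempty T)]
    exact sSup_le fun A hA => (hVA A hA).2
  obtain ⟨A₁, hA₁⟩ := mx_nonempty (p := 2) T
  have hA₁J : A₁ ≤ J := by rw [hJdef, thompsonOf_eq_sSup ⟨A₁, hA₁⟩]; exact le_sSup hA₁
  have hVJ : V ≤ J := (hVA A₁ hA₁).1.trans hA₁J
  have hJT : J ≤ (T : Subgroup G) := Subgroup.map_subtype_le _
  have hJR : J ≤ RM := hR ▸ le_inf hJT hJC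
  have hJRM : thompsonSubgroupOf 2 RM = J := thompson_between T hJR (hR.le.trans inf_le_left)
  have hJne : J ≠ ⊥ := fun e => hV0 (le_bot_iff.1 (e ▸ hVJ))
  -- `J(T)` is outside the core of `H`
  have hJQ : ¬ J ≤ pCoreOf 2 H := fun hJQ => h1 ⟨J, hJne, hJR, sup_le (hJRM ▸ thompson_normalized hMRM) (by
    rw [hJdef, ← thompson_between T hJQ (pCoreOf_le_sylow T hTH)]
    exact thompson_normalized (normalizer_pCoreOf H))⟩
  by_cases hz : H ≤ Subgroup.normalizer (omegaOneCenter 2 (T : Subgroup G) : Set G)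
  swap
  · -- pushing up
    have hBR : baumannSubgroupOf 2 (T : Subgroup G) ≤ RM := by
      refine hR ▸ le_inf inf_le_left (inf_le_right.trans (Subgroup.centralizer_le ?_))
      intro x hx
      exact Subgroup.subset_closure ⟨⟨hVJ hx, Subgroup.mem_centralizer_iff.2 fun j hj =>
        (Subgroup.mem_centralizer_iff.1 (hJC hj) x hx).symm⟩, hVe.2 x hx⟩
    have hBB : baumannSubgroupOf 2 RM = baumannSubgroupOf 2 (T : Subgroup G) := by
      have hc : centerThompsonOf 2 RM = centerThompsonOf 2 (T : Subgroup G) := by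
        rw [centerThompsonOf, centerThompsonOf, hJRM]
      refine le_antisymm ?_ (le_inf hBR ?_)
      · rw [baumannSubgroupOf, baumannSubgroupOf, hc]
        exact inf_le_inf_right _ (hR.le.trans inf_le_left)
      · rw [hc]; exact inf_le_right
    obtain ⟨R₀, a, b, c⟩ := common_of_baumann hev T hTM₀ hTH hne hU hTne le_rfl hRS Subgroup.le_normalizer
      (hBB ▸ hMRM.trans (normalizer_le_baumann RM)) hz
    exact absurd ⟨R₀, a, b.trans hBR, c⟩ h1
  -- the abstract case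
  set T' := T.subtype hTH with hT'
  have hT'map : (T' : Subgroup ↥H).map H.subtype = (T : Subgroup G) := by
    rw [hT', Sylow.coe_subtype, Subgroup.map_subgroupOf_eq_of_le hTH]
  have hVH : V ≤ H := hVT.trans hTH
  have hVmap : (V.subgroupOf H).map H.subtype = V := Subgroup.map_subgroupOf_eq_of_le hVH
  have hset : Setup T' (MH.subgroupOf H) (V.subgroupOf H) := by
    refine ⟨fun t ht => ?_, fun e => v.mne (Subgroup.subgroupOf_eq_top.1 e), fun K hK hne' k hk => ?_, ?_,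
      fun t ht => ?_, (elem2_subgroupOf hVe2 hVH).1, fun hn => hVn ((Subgroup.normal_subgroupOf_iff_le_normalizer hVH).1 hn),
      fun y hy => ?_, ?_, fun hJ => hJQ ?_, fun B hB hi hb => ?_⟩
    · exact v.tM (hT'map ▸ Subgroup.mem_map_of_mem _ ht)
    · refine v.uniq (K.map H.subtype) (hT'map ▸ Subgroup.map_mono hK) (Subgroup.map_subtype_le K) (fun e => hne' ?_)
        ⟨k, hk, rfl⟩
      refine eq_top_iff.2 fun x _ => ?_
      obtain ⟨k', hk', e'⟩ := e.ge x.2
      rwa [H.subtype_injective e'] at hk'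
    · rw [hT', Sylow.coe_subtype]
      exact Subgroup.comap_mono hVT
    · have ht' : (t : G) ∈ (T : Subgroup G) := hT'map ▸ Subgroup.mem_map_of_mem _ ht
      refine Subgroup.mem_normalizer_iff.2 fun x => ?_
      exact Subgroup.mem_normalizer_iff.1 (hTV ht') (x : G)
    · have hy' : (y : G) ∈ Subgroup.centralizer (pCoreOf 2 H : Set G) ⊓ H := by
        refine ⟨Subgroup.mem_centralizer_iff.2 ?_, y.2⟩
        rintro _ ⟨q, hq', rfl⟩
        exact congrArg Subtype.val (Subgroup.mem_centralizer_iff.1 hy q hq')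
      obtain ⟨q, hq', e⟩ := v.char2 hy'
      rwa [H.subtype_injective e] at hq'
    · have hmap : omegaOneCenter 2 (T' : Subgroup ↥H) = (omegaOneCenter 2 (T : Subgroup G)).subgroupOf H := by
        rw [← hT'map, omegaOneCenter_map_inj H.subtype_injective, Subgroup.subgroupOf,
          Subgroup.comap_map_eq_self_of_injective H.subtype_injective]
      rw [hmap]
      exact (Subgroup.normal_subgroupOf_iff_le_normalizer ((BBlock.omegaOneCenter_le 2 _).trans hTH)).2 hz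
    · rw [hJdef, ← hT'map, ← PLocal.thompsonSubgroupOf_map (p := 2) H.subtype fun _ _ _ _ h => H.subtype_injective h]
      exact Subgroup.map_mono hJ
    · have h := hq (B.map H.subtype) (hT'map ▸ Subgroup.map_mono hB) (hVmap ▸ induces_map.2 hi) (by
        rw [← hVmap, ← Subgroup.map_commutator, ← Subgroup.map_commutator, hb, Subgroup.map_bot])
      obtain ⟨e1, e2⟩ := index_map B (V.subgroupOf H)
      rw [hVmap] at e1 e2
      rwa [e1, e2] at h
  obtain ⟨hout, B, hB, hi, hc, hle⟩ := case_b hset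
  refine ⟨fun h => hout fun x hx => ?_, B.map H.subtype, (hT'map ▸ Subgroup.map_mono hB : _ ≤ (T : Subgroup G)).trans hTM₀,
    hVmap ▸ induces_map.2 hi, ?_, ?_⟩
  · obtain ⟨q, hq', e⟩ := h hx
    rwa [H.subtype_injective e] at hq'
  · rw [← hVmap, ← Subgroup.map_commutator, ← Subgroup.map_commutator, ← Subgroup.map_commutator, hc, Subgroup.map_bot]
  · obtain ⟨e1, e2⟩ := index_map B (V.subgroupOf H)
    rw [hVmap] at e1 e2
    rwa [e1, e2]

end CfsgLib.QTPush.Qrc
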