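import Cfsg.Agent.Lib.QTPush.Qrc.InCore

/-!
An elementary abelian normal subgroup of the core moved by `O²`: a cubic offender.
-/

set_option autoImplicit false
set_option linter.unusedSectionVars false

namespace CfsgLib.QTPush.Qrc

open Cfsg CfsgLib
open scoped commutatorElement Pointwise

universe u

variable {Γ : Type u} [Group Γ] [Finite Γ]

/-- A cubic offender inside `P` with exponent 2. -/
def HasCubic (V P : Subgroup Γ) : Prop :=
  ∃ B : Subgroup Γ, B ≤ P ∧ InducesElemAbelianTwoGroupOn B V ∧ ⁅⁅⁅V, B⁆, B⁆, B⁆ = ⊥ ∧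
    (V ⊓ Subgroup.centralizer (B : Set Γ)).relIndex V ≤ (Subgroup.centralizer (V : Set Γ)).relIndex B ^ 2

theorem cubic_eq_bot {V B D E : Subgroup Γ} (h1 : ⁅V, B⁆ ≤ D) (h2 : ⁅D, B⁆ ≤ E)
    (h3 : E ≤ Subgroup.centralizer (B : Set Γ)) : ⁅⁅⁅V, B⁆, B⁆, B⁆ = ⊥ := by
  rw [Subgroup.commutator_eq_bot_iff_le_centralizer]
  exact ((Subgroup.commutator_mono h1 le_rfl).trans h2).trans h3

theorem relIndex_le_mul (C : Subgroup Γ) {D E : Subgroup Γ} (h : D ≤ E) :
    C.relIndex E ≤ C.relIndex D * D.relIndex E := by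
  have h1 := Subgroup.relIndex_mul_relIndex (D ⊓ C) D E inf_le_left h
  rw [Subgroup.inf_relIndex_left] at h1
  rw [h1]
  exact relIndex_mono_left E (inf_le_left.trans inf_le_right)

theorem relIndex_sup_comm {W₀ E : Subgroup Γ} (h : ∀ a ∈ W₀, ∀ b ∈ E, a * b = b * a) :
    W₀.relIndex (W₀ ⊔ E) = W₀.relIndex E := by
  have h1 := card_sup_mul_card_inf W₀ E h
  rw [← card_mul_relIndex' (le_sup_left : W₀ ≤ W₀ ⊔ E), ← card_mul_relIndex' (inf_le_right : W₀ ⊓ E ≤ E),
    Subgroup.inf_relIndex_right] at h1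
  refine Nat.eq_of_mul_eq_mul_left (Nat.mul_pos (Nat.card_pos (α := ↥W₀)) (Nat.card_pos (α := ↥(W₀ ⊓ E)))) ?_
  linarith

namespace Setup

variable {T : Sylow 2 Γ} {M V L AR : Subgroup Γ} {h : Γ} (s : Setup T M V) (l : LSys T M L AR h)
include s l

theorem cubic_of_moved {U : Subgroup Γ} (hU : Elem2 U) (hUR : U ≤ pCoreOf 2 L)
    (hLU : L ≤ Subgroup.normalizer (U : Set Γ)) (hXU : ¬ oddGenerated L ≤ cmod ⊥ U) :
    HasCubic (cj h V) AR := by
  classical
  obtain ⟨W₀, W, e, -, hWU, -, -, -⟩ := exists_sect hU hLU bot_le (norm_bot L) hXU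
  set R := pCoreOf 2 L with hR
  set X := oddGenerated L with hX
  have hRL : R ≤ L := Large.pCoreOf_le 2 L
  have hRn : L ≤ Subgroup.normalizer (R : Set Γ) := normalizer_pCoreOf L
  set V' := cj h V with hV'
  have hWne : ¬ X ≤ cmod ⊥ W := fun hc => e.ne fun w hw => e.fpf w hw fun x hx => by
    rw [Subgroup.mem_bot.1 ((hc hx).2 w hw)]; exact one_mem _
  have hnR : ¬ V' ≤ R := s.v_not_in_core l
  obtain ⟨A, hA, hle, hAR, hquad⟩ := s.exists_quad l e.elem (hWU.trans hUR) e.n1 hWne fun A₀ hA₀ hA₀R =>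
    absurd ((s.v_le l hA₀ (hA₀R.trans l.R_le)).trans hA₀R) hnR
  have hquad' : ∀ w ∈ W, ∀ a ∈ A, ∀ a' ∈ A, ⁅a', ⁅a, w⁆⁆ ∈ W₀ := fun w hw a ha a' ha' => by
    rw [comm_eq_one (hquad w hw a ha a' ha').symm]; exact one_mem _
  have hVA : V' ≤ A := s.v_le l hA hle
  obtain ⟨a₀, ha₀, ha₀R⟩ := Set.not_subset.1 hnR
  set C := Sect.c1 W₀ W A with hC
  set D := V' ⊓ R with hD
  have hWW₀ : W ≤ Subgroup.normalizer (W₀ : Set Γ) := Sect.W_norm e l s.le_M hA hle hAR hquad'
  have hCle : C ≤ W₀ ⊔ (W ⊓ D) := Sect.c1_le e l s.le_M hA hle hAR hquad' (hVA ha₀) ha₀R fun w hw =>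
    ⟨comm_mem_right (e.n1 (l.AR_L (hle (hVA ha₀)))) hw,
      comm_mem_left (s.AR_norm l (l.R_le (hUR (hWU hw)))) ha₀,
      comm_mem_right (hRn (l.AR_L (hle (hVA ha₀)))) (hUR (hWU hw))⟩
  have hDC : W ⊓ D ≤ C := fun u hu => ⟨hu.1, hWW₀ hu.1, fun a ha => by
    rw [comm_eq_one (hA.1.1 _ (hVA hu.2.1) a ha)]; exact one_mem _⟩
  set z : Γ → ℕ := fun x => (Subgroup.centralizer (V' : Set Γ)).relIndex (cj x D) with hz
  have hzge : ∀ x ∈ L, x ∉ cj h M → R.relIndex V' ≤ z x := fun x hx hxM => by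
    set E := W ⊓ cj x D
    have hEC : E ⊓ Subgroup.centralizer (V' : Set Γ) ≤ W₀ := fun u hu => by
      have huW : u ∈ W := hu.1.1
      refine Sect.inf_c1 e l s.le_M hA hle hAR hquad' hx hxM
        ⟨Sect.mem_c1 e l s.le_M hA hle hAR hquad' (hVA ha₀) ha₀R huW ?_, ?_⟩
      · rw [comm_eq_one (Subgroup.mem_centralizer_iff.1 hu.2 a₀ ha₀)]; exact one_mem _
      · refine mem_cj.2 (hDC ⟨?_, mem_cj.1 hu.1.2⟩)
        simpa using norm_conj e.n1 (inv_mem hx) huW
    have hCx : cj x C ≤ W₀ ⊔ E := by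
      refine (cj_mono x hCle).trans ?_
      rw [cj, Subgroup.map_sup]
      refine sup_le ((cj_eq_of_normalizer (e.n0 hx)).le.trans le_sup_left) (le_trans ?_ le_sup_right)
      show cj x (W ⊓ D) ≤ E
      rw [cj_inf, cj_eq_of_normalizer (e.n1 hx)]
    calc R.relIndex V' ≤ R.relIndex A := relIndex_mono_right R hVA
      _ ≤ C.relIndex W := Sect.index_le e l s.le_M hA hle hAR hquad'
      _ = W₀.relIndex C := Sect.card_c1 e l s.le_M hA hle hAR hquad'
      _ = W₀.relIndex (cj x C) := by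
          conv_rhs => rw [← cj_eq_of_normalizer (e.n0 hx)]
          rw [cj_relIndex]
      _ ≤ W₀.relIndex (W₀ ⊔ E) := relIndex_mono_right W₀ hCx
      _ = W₀.relIndex E := relIndex_sup_comm fun a ha b hb => e.elem.1 a (e.le ha) b hb.1
      _ ≤ (Subgroup.centralizer (V' : Set Γ)).relIndex E :=
          relIndex_mono_left E (le_of_eq_of_le (inf_comm _ _) hEC)
      _ ≤ z x := relIndex_mono_right _ inf_le_right
  obtain ⟨x, ⟨hx, hxM⟩, hmax⟩ := Set.exists_max_image {x | x ∈ L ∧ x ∉ cj h M} z (Set.toFinite _)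
    (Set.not_subset.1 l.not_le)
  set B := cj x D with hB
  have hBR : B ≤ R := (cj_mono x inf_le_right).trans (cj_eq_of_normalizer (hRn hx)).le
  have hVL : V' ≤ L := (s.v_AR l).trans l.AR_L
  have hBV : B ≤ cj x V' := cj_mono x inf_le_left
  refine ⟨B, hBR.trans l.R_le, ⟨fun hc => ?_, fun b hb => ?_, fun b hb b' hb' => ?_⟩,
    cubic_eq_bot (D := D) (E := V' ⊓ cj x V') (le_inf (comm_le_left ((hBR.trans l.R_le).trans (s.AR_norm l))) ?_)
      (le_inf ((Subgroup.commutator_mono inf_le_left le_rfl).trans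
        (comm_le_left ((hBR.trans l.R_le).trans (s.AR_norm l)))) ?_)
      fun y hy => Subgroup.mem_centralizer_iff.2 fun b hb => ((s.velem.cj h).cj x).1 b (hBV hb) y hy.2, ?_⟩
  · have h1 := hzge x hx hxM
    have h2 : z x = 1 := Subgroup.relIndex_eq_one.2 hc
    have h3 : R.relIndex V' ≠ 1 := fun e' => hnR (Subgroup.relIndex_eq_one.1 e')
    have := relIndex_ne_zero' R V'
    omega
  · rw [pow_two, ((s.velem.cj h).cj x).2 b (hBV hb)]; exact one_mem _
  · rw [((s.velem.cj h).cj x).1 b (hBV hb) b' (hBV hb'), mul_inv_cancel_right, mul_inv_cancel]; exact one_mem _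
  · rw [Subgroup.commutator_comm]
    exact (Subgroup.commutator_mono hBR le_rfl).trans (comm_le_left (hVL.trans hRn))
  · rw [Subgroup.commutator_comm]
    refine (Subgroup.commutator_mono hBV le_rfl).trans (comm_le_left ?_)
    rw [hV', ← cj_mul]
    exact inf_le_right.trans (s.core_norm l hx)
  · rw [Subgroup.inf_relIndex_left]
    have h1 : (Subgroup.centralizer (B : Set Γ)).relIndex D ≤ z x⁻¹ := by
      refine le_trans (relIndex_mono_left D (inf_le_left.trans (Subgroup.centralizer_le hBV))) (le_of_eq ?_)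
      show (Subgroup.centralizer (cj x V' : Set Γ)).relIndex D =
        (Subgroup.centralizer (V' : Set Γ)).relIndex (cj x⁻¹ D)
      rw [← cj_relIndex x (Subgroup.centralizer (V' : Set Γ)) (cj x⁻¹ D), cj_centralizer, ← cj_mul x x⁻¹ D,
        mul_inv_cancel, cj_one]
    have h2 : z x⁻¹ ≤ z x := hmax x⁻¹ ⟨inv_mem hx, fun hh => hxM (inv_inv x ▸ inv_mem hh)⟩
    have h3 : D.relIndex V' = R.relIndex V' := Subgroup.inf_relIndex_left V' R
    calc (Subgroup.centralizer (B : Set Γ)).relIndex V'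
        ≤ (Subgroup.centralizer (B : Set Γ)).relIndex D * D.relIndex V' := relIndex_le_mul _ inf_le_left
      _ ≤ z x * z x := Nat.mul_le_mul (h1.trans h2) (h3.le.trans (hzge x hx hxM))
      _ = _ := (pow_two _).symm

end Setup

end CfsgLib.QTPush.Qrc
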