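import Cfsg.Agent.Lib.QTPush.Qrc.ClassTwo
import Cfsg.Agent.Lib.QTPush.Qrc.Factor

/-!
No elementary abelian normal subgroup of the core is moved by `O²`: the moved part of the core is of class two and
is a cubic offender.
-/

set_option autoImplicit false
set_option linter.unusedSectionVars false

namespace CfsgLib.QTPush.Qrc

open Cfsg CfsgLib
open scoped commutatorElement Pointwise

universe u

variable {Γ : Type u} [Group Γ] [Finite Γ]

theorem comm_pow_left {P Z : Subgroup Γ} (hc : ∀ p ∈ P, ∀ z ∈ Z, p * z = z * p)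
    (hcm : ∀ p ∈ P, ∀ q ∈ P, ⁅p, q⁆ ∈ Z) {p q : Γ} (hp : p ∈ P) (hq : q ∈ P) (n : ℕ) :
    ⁅p ^ n, q⁆ = ⁅p, q⁆ ^ n := by
  induction n with
  | zero => rw [pow_zero, pow_zero, commutatorElement_one_left]
  | succ n ih =>
    rw [pow_succ', comm_mul_left, ih, hc p hp _ (pow_mem (hcm p hp q hq) n), mul_inv_cancel_right, pow_succ]

theorem comm_pow_right {P Z : Subgroup Γ} (hc : ∀ p ∈ P, ∀ z ∈ Z, p * z = z * p)
    (hcm : ∀ p ∈ P, ∀ q ∈ P, ⁅p, q⁆ ∈ Z) {p q : Γ} (hp : p ∈ P) (hq : q ∈ P) (n : ℕ) :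
    ⁅p, q ^ n⁆ = ⁅p, q⁆ ^ n := by
  rw [← commutatorElement_inv, comm_pow_left hc hcm hq hp, ← commutatorElement_inv, inv_pow, inv_inv]

namespace Setup

variable {T : Sylow 2 Γ} {M V L AR : Subgroup Γ} {h : Γ} (s : Setup T M V) (l : LSys T M L AR h)
include s l

theorem cubic_of_fixed (hfix : ∀ U : Subgroup Γ, Elem2 U → U ≤ pCoreOf 2 L →
      L ≤ Subgroup.normalizer (U : Set Γ) → oddGenerated L ≤ cmod ⊥ U) :
    HasCubic (cj h V) AR := by
  classical
  set R := pCoreOf 2 L with hR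
  set X := oddGenerated L with hX
  set V' := cj h V with hV'
  have hRL : R ≤ L := Large.pCoreOf_le 2 L
  have hRn : L ≤ Subgroup.normalizer (R : Set Γ) := normalizer_pCoreOf L
  have hXL : X ≤ L := oddGenerated_le L
  have hXn : L ≤ Subgroup.normalizer (X : Set Γ) := oddGenerated_normalized L
  have hRp : IsPGroup 2 R := isPGroup_pCoreOf L
  have hVe : Elem2 V' := s.velem.cj h
  have hVAR : V' ≤ AR := s.v_AR l
  have hARV : AR ≤ Subgroup.normalizer (V' : Set Γ) := s.AR_norm l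
  have hRV : R ≤ Subgroup.normalizer (V' : Set Γ) := l.R_le.trans hARV
  obtain ⟨a₀, ha₀, ha₀R⟩ := Set.not_subset.1 (s.v_not_in_core l)
  -- abelian normal subgroups of the core are centralized
  have habel : ∀ A : Subgroup Γ, A ≤ R → L ≤ Subgroup.normalizer (A : Set Γ) →
      (∀ a ∈ A, ∀ b ∈ A, a * b = b * a) → ∀ x ∈ X, ∀ a ∈ A, x * a = a * x := by
    intro A hA hAn hab
    let U : Subgroup Γ :=
      { carrier := {a | a ∈ A ∧ a * a = 1}
        one_mem' := ⟨one_mem _, one_mul 1⟩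
        mul_mem' := fun {a b} ha hb => ⟨mul_mem ha.1 hb.1, by
          rw [show a * b * (a * b) = a * (b * a) * b by group, hab b hb.1 a ha.1,
            show a * (a * b) * b = (a * a) * (b * b) by group, ha.2, hb.2, one_mul]⟩
        inv_mem' := fun {a} ha => ⟨inv_mem ha.1, by rw [← mul_inv_rev, ha.2, inv_one]⟩ }
    have hUn : L ≤ Subgroup.normalizer (U : Set Γ) := fun g hg => ZJFailure.mem_normalizer_of_forall fun a ha =>
      ⟨norm_conj hAn hg ha.1, by
        rw [show g * a * g⁻¹ * (g * a * g⁻¹) = g * (a * a) * g⁻¹ by group, ha.2, mul_one, mul_inv_cancel]⟩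
    have h1 := hfix U ⟨fun a ha b hb => hab a ha.1 b hb.1, fun a ha => ha.2⟩ (fun a ha => hA ha.1) hUn
    rw [cmod_bot] at h1
    intro x hx a ha
    have hle : X ≤ Subgroup.centralizer {a} := (Subgroup.closure_le _).2 fun y hy =>
      Subgroup.mem_centralizer_singleton_iff.2 (commute_of_omega hab (hRp.to_le hA) (hAn hy.1) hy.2
        (fun u hu hu2 => Subgroup.mem_centralizer_iff.1 (h1 (odd_mem hy.1 hy.2)) u ⟨hu, hu2⟩) ha).symm
    exact Subgroup.mem_centralizer_singleton_iff.1 (hle hx)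
  set Z := R ⊓ Subgroup.centralizer (X : Set Γ) with hZ
  have hZn : L ≤ Subgroup.normalizer (Z : Set Γ) := le_normalizer_inf hRn (le_normalizer_centralizer hXn)
  set P := ⁅R, X⁆ with hP
  have hPn : L ≤ Subgroup.normalizer (P : Set Γ) := le_normalizer_comm hRn hXn
  have hPR : P ≤ R := comm_le_left (hXL.trans hRn)
  have hPL : P ≤ L := hPR.trans hRL
  have hPp : IsPGroup 2 P := hRp.to_le hPR
  have hPX : P ≤ ⁅P, X⁆ := (comm_idem hRp hRL hRn).ge
  have hPne : P ≠ ⊥ := fun e => s.odd_moves l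
    (Subgroup.le_centralizer_iff.1 (Subgroup.commutator_eq_bot_iff_le_centralizer.1 e))
  have hPZ : ∀ p ∈ P, ∀ z ∈ Z, p * z = z * p := by
    have h1 : ⁅⁅R, X⁆, Z⁆ = ⊥ := by
      refine Subgroup.commutator_commutator_eq_bot_of_rotate ?_ ?_
      · rw [show ⁅X, Z⁆ = ⊥ from Subgroup.commutator_eq_bot_iff_le_centralizer.2
          (Subgroup.le_centralizer_iff.1 inf_le_right), Subgroup.commutator_bot_left]
      · rw [Subgroup.commutator_eq_bot_iff_le_centralizer]
        exact (comm_le_left (hRL.trans hZn)).trans inf_le_right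
    exact fun p hp z hz =>
      (Subgroup.mem_centralizer_iff.1 (Subgroup.commutator_eq_bot_iff_le_centralizer.1 h1 hp) z hz).symm
  set Z₀ := P ⊓ Z with hZ₀
  have hZ₀n : L ≤ Subgroup.normalizer (Z₀ : Set Γ) := le_normalizer_inf hPn hZn
  have hmemZ₀ : ∀ {a : Γ}, a ∈ P → (∀ x ∈ X, x * a = a * x) → a ∈ Z₀ := fun ha hx =>
    ⟨ha, hPR ha, Subgroup.mem_centralizer_iff.2 hx⟩
  have habel' : ∀ A : Subgroup Γ, A ≤ P → L ≤ Subgroup.normalizer (A : Set Γ) →
      (∀ a ∈ A, ∀ b ∈ A, a * b = b * a) → A ≤ Z₀ := fun A hA hn hab a ha =>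
    hmemZ₀ (hA ha) fun x hx => habel A (hA.trans hPR) hn hab x hx a ha
  have hzc : ∀ p ∈ P, ∀ z ∈ Z₀, p * z = z * p := fun p hp z hz => hPZ p hp z hz.2
  have hzX : ∀ x ∈ X, ∀ z ∈ Z₀, x * z = z * x := fun x hx z hz => Subgroup.mem_centralizer_iff.1 hz.2.2 x hx
  -- class two
  set P' := ⁅P, P⁆ with hP'
  have hP'n : L ≤ Subgroup.normalizer (P' : Set Γ) := le_normalizer_comm hPn hPn
  have hP'P : P' ≤ P := comm_le_left Subgroup.le_normalizer
  have hP'Z : P' ≤ Z₀ := by
    by_contra hne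
    obtain ⟨W, ⟨hWP', hWn, hWne⟩, hmin⟩ := Set.exists_min_image {W : Subgroup Γ | W ≤ P' ∧
      L ≤ Subgroup.normalizer (W : Set Γ) ∧ ¬ W ≤ Z₀} (fun W => Nat.card W) (Set.toFinite _) ⟨P', le_rfl, hP'n, hne⟩
    have hWbot : (⊥ : Subgroup Γ) ≠ W := fun e => hWne (e ▸ bot_le)
    obtain ⟨N', -, hN'W, hN'ne, hPN', -⟩ := exists_central_factor hPp (hPp.to_le (hWP'.trans hP'P)) bot_le hWbot
      (hPL.trans hWn) (norm_bot P) (norm_bot W)
    have hWP : ⁅W, P⁆ ≤ N' := (comm_le_iff_cmod fun r hr => (hPN' hr).1).2 hPN'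
    have hsm : ⁅W, P⁆ ≤ Z₀ := by
      by_contra h1
      exact hN'ne (le_antisymm hN'W ((Subgroup.eq_of_le_of_card_ge (hWP.trans hN'W)
        (hmin _ ⟨(hWP.trans hN'W).trans hWP', le_normalizer_comm hWn hPn, h1⟩)).ge.trans hWP))
    have h0 : ⁅⁅W, P⁆, P⁆ = ⊥ := by
      rw [Subgroup.commutator_eq_bot_iff_le_centralizer]
      exact fun y hy => Subgroup.mem_centralizer_iff.2 fun p hp => hzc p hp y (hsm hy)
    have h2 : ⁅P', W⁆ = ⊥ := by
      refine Subgroup.commutator_commutator_eq_bot_of_rotate ?_ h0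
      rw [Subgroup.commutator_comm P W]; exact h0
    refine hWne (habel' W (hWP'.trans hP'P) hWn fun a ha b hb => ?_)
    exact (Subgroup.mem_centralizer_iff.1 ((Subgroup.commutator_eq_bot_iff_le_centralizer.1 h2) (hWP' ha)) b hb).symm
  have hcm : ∀ p ∈ P, ∀ q ∈ P, ⁅p, q⁆ ∈ Z₀ := fun p hp q hq =>
    hP'Z (Subgroup.commutator_mem_commutator hp hq)
  have hsq : ∀ p ∈ P, p * p ∈ Z₀ := by
    have step : ∀ j : ℕ, (∀ p ∈ P, p ^ 2 ^ (j + 1) ∈ Z₀) → ∀ p ∈ P, p ^ 2 ^ 1 ∈ Z₀ := by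
      intro j
      induction j with
      | zero => exact id
      | succ j ih =>
        intro hj
        refine ih fun p hp => ?_
        set m := 2 ^ (j + 1) with hm
        have hsq' : ∀ a ∈ P, ∀ b ∈ P, a ^ m * b ^ m = b ^ m * a ^ m := fun a ha b hb => by
          refine commutatorElement_eq_one_iff_mul_comm.1 ?_
          rw [comm_pow_left hzc hcm ha (pow_mem hb m), comm_pow_right hzc hcm ha hb, ← pow_mul,
            ← comm_pow_left hzc hcm ha hb,
            show m * m = 2 ^ (j + 1 + 1) * 2 ^ j by rw [hm, ← pow_add, ← pow_add]; ring_nf, pow_mul]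
          exact comm_eq_one (hzc b hb _ (pow_mem (hj a ha) _)).symm
        set N := Subgroup.closure ((fun a => a ^ m) '' (P : Set Γ)) with hN
        have hNP : N ≤ P := (Subgroup.closure_le _).2 fun y ⟨a, ha, e⟩ => e ▸ pow_mem ha m
        have hNn : L ≤ Subgroup.normalizer (N : Set Γ) := fun g hg => ZJFailure.mem_normalizer_of_forall fun y hy => by
          have hle : N ≤ N.comap (MulAut.conj g).toMonoidHom := (Subgroup.closure_le _).2 fun w ⟨a, ha, e⟩ =>
            Subgroup.subset_closure ⟨g * a * g⁻¹, norm_conj hPn hg ha, by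
              show (g * a * g⁻¹) ^ m = g * w * g⁻¹
              rw [conj_pow, ← e]⟩
          exact hle hy
        haveI : IsMulCommutative ↥N := Subgroup.isMulCommutative_closure (by
          rintro _ ⟨a, ha, rfl⟩ _ ⟨b, hb, rfl⟩
          exact hsq' a ha b hb)
        exact habel' N hNP hNn (fun a ha b hb => Subgroup.mul_comm_of_mem_isMulCommutative N ha hb)
          (Subgroup.subset_closure ⟨p, hp, rfl⟩)
    obtain ⟨n, hn⟩ := IsPGroup.iff_card.1 hPp
    intro p hp
    have h1 := step n (fun p hp => by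
      have h2 : p ^ 2 ^ n = 1 := by
        have := congrArg Subtype.val (pow_card_eq_one' (x := (⟨p, hp⟩ : ↥P)))
        rw [hn] at this
        simpa using this
      rw [pow_succ, pow_mul, h2, one_pow]; exact one_mem _) p hp
    simpa [pow_two] using h1
  have hP'sq : ∀ p ∈ P, ∀ q ∈ P, ⁅p, q⁆ * ⁅p, q⁆ = 1 := fun p hp q hq => by
    rw [← pow_two, ← comm_pow_left hzc hcm hp hq, pow_two]
    exact comm_eq_one (hzc q hq _ (hsq p hp)).symm
  have hP'e : Elem2 P' := by
    refine ⟨fun a ha b hb => hzc a (hP'P ha) b (hP'Z hb), fun a ha => ?_⟩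
    let K : Subgroup Γ :=
      { carrier := {a | a ∈ Z₀ ∧ a * a = 1}
        one_mem' := ⟨one_mem _, one_mul 1⟩
        mul_mem' := fun {a b} ha hb => ⟨mul_mem ha.1 hb.1, by
          rw [show a * b * (a * b) = a * (b * a) * b by group, hzc b hb.1.1 a ha.1,
            show a * (a * b) * b = (a * a) * (b * b) by group, ha.2, hb.2, one_mul]⟩
        inv_mem' := fun {a} ha => ⟨inv_mem ha.1, by rw [← mul_inv_rev, ha.2, inv_one]⟩ }
    exact ((Subgroup.commutator_le.2 fun p hp q hq => ⟨hcm p hp q hq, hP'sq p hp q hq⟩ : P' ≤ K) ha).2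
  -- what `V'` does
  have hVP : ∀ v ∈ V', ∀ p ∈ P, ⁅v, p⁆ ∈ V' ⊓ P := fun v hv p hp =>
    ⟨comm_mem_left (hRV (hPR hp)) hv, comm_mem_right (hPn (l.AR_L (hVAR hv))) hp⟩
  have hgen : ∀ K : Subgroup Γ, L ≤ Subgroup.normalizer (K : Set Γ) → V' ⊓ P ≤ K → P ≤ K := by
    intro K hK hVK
    have h1 := l.section_cent s.le_M hK hPn (hVAR ha₀) ha₀R
      (show a₀ ∈ cmod K P from ⟨hK (l.AR_L (hVAR ha₀)), fun p hp => hVK (hVP a₀ ha₀ p hp)⟩)
    exact hPX.trans ((comm_le_iff_cmod (hXL.trans hK)).2 h1)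
  have hnorm_of_le : ∀ {N : Subgroup Γ}, N ≤ Z₀ → AR ≤ Subgroup.normalizer (N : Set Γ) →
      L ≤ Subgroup.normalizer (N : Set Γ) := fun {N} hN hAR => (l.sup_AR s.le_M).trans (sup_le
    (fun x hx => ZJFailure.mem_normalizer_of_forall fun y hy => by
      rw [hzX x hx y (hN hy), mul_inv_cancel_right]; exact hy) hAR)
  set Cv := P' ⊓ Subgroup.centralizer (V' : Set Γ) with hCv
  have hCvn : L ≤ Subgroup.normalizer (Cv : Set Γ) := hnorm_of_le (inf_le_left.trans hP'Z)
    (le_normalizer_inf (l.AR_L.trans hP'n) (le_normalizer_centralizer hARV))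
  have hPCv : P ≤ Subgroup.normalizer (Cv : Set Γ) :=
    le_normalizer_of_comm fun a ha b hb => hzc a ha b (hP'Z hb.1)
  have hVP' : P' ≤ Subgroup.centralizer (V' : Set Γ) := by
    have h1 := hgen (P ⊓ cmod Cv P) (le_normalizer_inf hPn (le_cmod_normalizer hCvn hPn)) fun d hd =>
      ⟨hd.2, hPCv hd.2, fun p hp => ⟨Subgroup.commutator_mem_commutator hd.2 hp,
        Subgroup.mem_centralizer_iff.2 fun v hv => hVe.1 v hv _ (comm_mem_left (hRV (hPR hp)) hd.1)⟩⟩
    exact Subgroup.commutator_le.2 fun p hp q hq => ((h1 hp).2.2 q hq).2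
  set Zc := Z₀ ⊓ Subgroup.centralizer (V' : Set Γ) with hZc
  have hZcn : L ≤ Subgroup.normalizer (Zc : Set Γ) := hnorm_of_le inf_le_left
    (le_normalizer_inf (l.AR_L.trans hZ₀n) (le_normalizer_centralizer hARV))
  have hsqV : ∀ p ∈ P, p * p ∈ Subgroup.centralizer (V' : Set Γ) := by
    let K : Subgroup Γ :=
      { carrier := {p | p ∈ P ∧ p * p ∈ Zc}
        one_mem' := ⟨one_mem _, by rw [one_mul]; exact one_mem _⟩
        mul_mem' := fun {p q} hp hq => ⟨mul_mem hp.1 hq.1, by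
          have hc : ⁅q, p⁆ ∈ P' := Subgroup.commutator_mem_commutator hq.1 hp.1
          rw [show p * q * (p * q) = p * ⁅q, p⁆ * (p * q * q) by simp only [commutatorElement_def]; group,
            hzc p hp.1 _ (hP'Z hc), show ⁅q, p⁆ * p * (p * q * q) = ⁅q, p⁆ * ((p * p) * (q * q)) by group]
          exact mul_mem ⟨hP'Z hc, hVP' hc⟩ (mul_mem hp.2 hq.2)⟩
        inv_mem' := fun {p} hp => ⟨inv_mem hp.1, by rw [← mul_inv_rev]; exact inv_mem hp.2⟩ }
    have hKn : L ≤ Subgroup.normalizer (K : Set Γ) := fun g hg => ZJFailure.mem_normalizer_of_forall fun p hp =>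
      ⟨norm_conj hPn hg hp.1, by
        rw [show g * p * g⁻¹ * (g * p * g⁻¹) = g * (p * p) * g⁻¹ by group]
        exact norm_conj hZcn hg hp.2⟩
    have h1 := hgen K hKn fun d hd => ⟨hd.2, by rw [hVe.2 d hd.1]; exact one_mem _⟩
    exact fun p hp => (h1 hp).2.2
  -- the data of the count
  set D := V' ⊓ R with hD
  have hDV : D ≤ V' := inf_le_left
  have hDX : ∀ d ∈ D, ∀ x ∈ X, ⁅x, d⁆ ∈ P := fun d hd x hx => by
    rw [hP, Subgroup.commutator_comm]; exact Subgroup.commutator_mem_commutator hx hd.2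
  set E₀ := P' ⊔ (V' ⊓ Z₀) with hE₀
  have hE₀Z : E₀ ≤ Z₀ := sup_le hP'Z inf_le_right
  have hE₀e : Elem2 E₀ := elem2_sup hP'e (elem2_of_le hVe inf_le_left) fun a ha b hb =>
    hzc a (hP'P ha) b hb.2
  have hE₀V : E₀ ≤ Subgroup.centralizer (V' : Set Γ) :=
    sup_le hVP' fun y hy => Subgroup.mem_centralizer_iff.2 fun v hv => hVe.1 v hv y hy.1
  have hPD : ⁅P, D⁆ ≤ E₀ := by
    set N := ⁅P, D⁆ ⊔ Z₀ with hN
    have hPDV : ⁅P, D⁆ ≤ V' ⊓ P := Subgroup.commutator_le.2 fun p hp d hd => by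
      have h1 := hVP d hd.1 p hp
      exact ⟨comm_swap_mem h1.1, comm_swap_mem h1.2⟩
    have hNP : N ≤ P := sup_le (hPDV.trans inf_le_right) inf_le_left
    have hNab : ∀ a ∈ N, ∀ b ∈ N, a * b = b * a := PLocal.sup_le_centralizer_sup
      (fun a ha b hb => hVe.1 a (hPDV ha).1 b (hPDV hb).1)
      (fun a ha b hb => hzc a ha.1 b hb) fun a ha b hb => hzc a (hPDV ha).2 b hb
    have hNn : L ≤ Subgroup.normalizer (N : Set Γ) := by
      refine (l.sup_AR s.le_M).trans (sup_le (fun x hx => ZJFailure.mem_normalizer_of_forall fun y hy => ?_)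
        (le_normalizer_sup (le_normalizer_comm (l.AR_L.trans hPn) (le_normalizer_inf hARV (l.AR_L.trans hRn)))
          (l.AR_L.trans hZ₀n)))
      have hle : N ≤ N.comap (MulAut.conj x).toMonoidHom := by
        refine sup_le (Subgroup.commutator_le.2 fun p hp d hd => ?_) fun z hz =>
          Subgroup.mem_sup_right (norm_conj hZ₀n (hXL hx) hz)
        show x * ⁅p, d⁆ * x⁻¹ ∈ N
        set p' := x * p * x⁻¹
        have hp' : p' ∈ P := norm_conj hPn (hXL hx) hp
        set r := ⁅x, d⁆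
        have hr : r ∈ P := hDX d hd x hx
        have he : ⁅p', d⁆ ∈ V' ⊓ P := hPDV (Subgroup.commutator_mem_commutator hp' hd)
        rw [comm_conj, show x * d * x⁻¹ = r * d by simp only [r, commutatorElement_def]; group, comm_mul_right,
          show r * ⁅p', d⁆ * r⁻¹ = ⁅r, ⁅p', d⁆⁆ * ⁅p', d⁆ by simp only [commutatorElement_def]; group]
        exact mul_mem (Subgroup.mem_sup_right (hcm p' hp' r hr)) (mul_mem
          (Subgroup.mem_sup_right (hcm r hr _ he.2)) (Subgroup.mem_sup_left (Subgroup.commutator_mem_commutator hp' hd)))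
      exact hle hy
    exact fun y hy => Subgroup.mem_sup_right
      ⟨(hPDV hy).1, habel' N hNP hNn hNab (Subgroup.mem_sup_left hy)⟩
  have f : Flat L AR P Z₀ E₀ D :=
    { ar2 := l.AR_p
      arL := l.AR_L
      sup := l.sup_AR s.le_M
      PL := hPL
      Pn := hPn
      p2 := hPp
      zP := inf_le_left
      zc := hzc
      zX := hzX
      eZ := hE₀Z
      eel := hE₀e
      comm := fun p hp q hq => Subgroup.mem_sup_left (Subgroup.commutator_mem_commutator hp hq)
      fixed := fun c hc hodd => hmemZ₀ hc (fun x hx => by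
        have hle : X ≤ Subgroup.centralizer {c} := (Subgroup.closure_le _).2 fun y hy =>
          Subgroup.mem_centralizer_singleton_iff.2 (hodd y hy.1 hy.2)
        exact Subgroup.mem_centralizer_singleton_iff.1 (hle hx))
      abel := habel'
      dE := fun d hd r hr => hPD (Subgroup.commutator_mem_commutator hr hd)
      dcE := fun d hd z hz => Subgroup.mem_centralizer_iff.1 (hE₀V hz) d hd.1
      dX := hDX }
  have hy := f.count _ P D rfl le_rfl hPn hPX le_rfl fun d hd x hx => Subgroup.mem_sup_left (hDX d hd x hx)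
  have hz := factor_bound l s.le_M hPR hPn (inf_le_left : Z₀ ≤ P) (fun e => hPne (by
    refine le_bot_iff.1 (hPX.trans (le_of_eq ?_))
    rw [Subgroup.commutator_eq_bot_iff_le_centralizer]
    exact (e.ge.trans inf_le_right).trans inf_le_right)) hZ₀n hPX hsq hcm hVAR hVe
  have hcan : (Subgroup.centralizer (P : Set Γ)).relIndex D ≤ (Subgroup.centralizer (V' : Set Γ)).relIndex P :=
    hy.trans (relIndex_mono_left P (inf_le_left.trans (Subgroup.centralizer_le hDV)))
  refine ⟨P, hPR.trans l.R_le, ⟨fun hc => ?_, fun b hb => by rw [pow_two]; exact hsqV b hb, fun b hb b' hb' => ?_⟩,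
    cubic_eq_bot (D := V' ⊓ P) (E := P') (Subgroup.commutator_le.2 hVP)
      (Subgroup.commutator_mono inf_le_right le_rfl)
      (fun y hy => Subgroup.mem_centralizer_iff.2 fun b hb => hzc b hb y (hP'Z hy)), ?_⟩
  · have h1 : (Subgroup.centralizer (V' : Set Γ)).relIndex P = 1 := Subgroup.relIndex_eq_one.2 hc
    have h2 : R.relIndex V' ≠ 1 := fun e => ha₀R ((Subgroup.relIndex_eq_one.1 e) ha₀)
    have := relIndex_ne_zero' R V'
    change R.relIndex V' ≤ _ at hz
    omega
  · rw [← commutatorElement_def]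
    exact hVP' (Subgroup.commutator_mem_commutator hb hb')
  · rw [Subgroup.inf_relIndex_left]
    have h3 : D.relIndex V' = R.relIndex V' := Subgroup.inf_relIndex_left V' R
    calc (Subgroup.centralizer (P : Set Γ)).relIndex V'
        ≤ (Subgroup.centralizer (P : Set Γ)).relIndex D * D.relIndex V' := relIndex_le_mul _ inf_le_left
      _ ≤ (Subgroup.centralizer (V' : Set Γ)).relIndex P * (Subgroup.centralizer (V' : Set Γ)).relIndex P :=
          Nat.mul_le_mul hcan (h3.le.trans hz)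
      _ = _ := (pow_two _).symm

end Setup

end CfsgLib.QTPush.Qrc
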