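import Cfsg.Agent.Lib.QTPush.Qrc.Wide

/-!
A minimal section moved by `O²` and a member of `𝒜` acting quadratically on it: the section is regular.
-/

set_option autoImplicit false
set_option linter.unusedSectionVars false

namespace CfsgLib.QTPush.Qrc

open Cfsg CfsgLib
open scoped commutatorElement Pointwise

universe u

variable {Γ : Type u} [Group Γ] [Finite Γ]

theorem mem_cmod_of_le {E W : Subgroup Γ} (hEW : E ≤ W) {g : Γ} (h : ∀ w ∈ W, ⁅g, w⁆ ∈ E) : g ∈ cmod E W := by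
  refine ⟨ZJFailure.mem_normalizer_of_forall fun e he => ?_, h⟩
  rw [show g * e * g⁻¹ = ⁅g, e⁆ * e by simp only [commutatorElement_def]; group]
  exact mul_mem (h e (hEW he)) he

theorem norm_bot (L : Subgroup Γ) : L ≤ Subgroup.normalizer ((⊥ : Subgroup Γ) : Set Γ) := by
  rw [Subgroup.normalizer_eq_top]; exact le_top

theorem cmod_bot (W : Subgroup Γ) : cmod ⊥ W = Subgroup.centralizer (W : Set Γ) := by
  ext g
  rw [Subgroup.mem_centralizer_iff]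
  exact ⟨fun h w hw => (commutatorElement_eq_one_iff_mul_comm.1 (Subgroup.mem_bot.1 (h.2 w hw))).symm,
    fun h => ⟨norm_bot ⊤ (Subgroup.mem_top g), fun w hw => Subgroup.mem_bot.2 (comm_eq_one (h w hw).symm)⟩⟩

/-- A minimal section moved by `O²(L)`. -/
structure Sect (L W₀ W : Subgroup Γ) : Prop where
  le : W₀ ≤ W
  n0 : L ≤ Subgroup.normalizer (W₀ : Set Γ)
  n1 : L ≤ Subgroup.normalizer (W : Set Γ)
  elem : Elem2 W
  core : pCoreOf 2 L ≤ cmod W₀ W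
  fpf : ∀ u ∈ W, (∀ x ∈ oddGenerated L, ⁅x, u⁆ ∈ W₀) → u ∈ W₀
  genX : W ≤ ⁅W, oddGenerated L⁆ ⊔ W₀
  ne : ¬ W ≤ W₀

theorem exists_sect {L U Wb : Subgroup Γ} (hU : Elem2 U) (hLU : L ≤ Subgroup.normalizer (U : Set Γ))
    (hb : Wb ≤ U) (hLb : L ≤ Subgroup.normalizer (Wb : Set Γ)) (hne : ¬ oddGenerated L ≤ cmod Wb U) :
    ∃ W₀ W : Subgroup Γ, Sect L W₀ W ∧ Wb ≤ W₀ ∧ W ≤ U ∧ oddGenerated L ≤ cmod Wb W₀ ∧
      W ≤ ⁅W, oddGenerated L⁆ ⊔ Wb ∧
      ∀ E : Subgroup Γ, Wb ≤ E → E ≤ W → L ≤ Subgroup.normalizer (E : Set Γ) → E ≠ W → E ≤ W₀ := by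
  obtain ⟨W, ⟨hbW, hWU, hLW, hWne⟩, hmin⟩ := Set.exists_min_image {W : Subgroup Γ | Wb ≤ W ∧ W ≤ U ∧
    L ≤ Subgroup.normalizer (W : Set Γ) ∧ ¬ oddGenerated L ≤ cmod Wb W} (fun W => Nat.card W) (Set.toFinite _)
    ⟨U, hb, le_rfl, hLU, hne⟩
  set X := oddGenerated L with hX
  have hXL : X ≤ L := oddGenerated_le L
  have hWe : Elem2 W := elem2_of_le hU hWU
  have hWb : W ≤ Subgroup.normalizer (Wb : Set Γ) :=
    le_normalizer_of_comm fun a ha b hb' => hWe.1 a ha b (hbW hb')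
  set W₀ := W ⊓ cmod Wb X with hW₀
  have hX₀ : X ≤ cmod Wb W₀ := le_cmod_symm (hXL.trans hLb) inf_le_right
  have hb₀ : Wb ≤ W₀ := le_inf hbW fun u hu => ⟨Subgroup.le_normalizer hu, fun x hx =>
    comm_mem_left (hLb (hXL hx)) hu⟩
  have hL₀ : L ≤ Subgroup.normalizer (W₀ : Set Γ) :=
    le_normalizer_inf hLW (le_cmod_normalizer hLb (oddGenerated_normalized L))
  have hsmall : ∀ E : Subgroup Γ, Wb ≤ E → E ≤ W → L ≤ Subgroup.normalizer (E : Set Γ) → E ≠ W →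
      X ≤ cmod Wb E := fun E h1 h2 h3 h4 => by
    by_contra hE
    exact h4 (Subgroup.eq_of_le_of_card_ge h2 (hmin E ⟨h1, h2.trans hWU, h3, hE⟩))
  have hsmall' : ∀ E : Subgroup Γ, Wb ≤ E → E ≤ W → L ≤ Subgroup.normalizer (E : Set Γ) → E ≠ W →
      E ≤ W₀ := fun E h1 h2 h3 h4 => le_inf h2 (le_cmod_symm (h2.trans hWb) (hsmall E h1 h2 h3 h4))
  have hWne' : Wb ≠ W := fun e => hWne fun x hx => ⟨hLb (hXL hx), fun w hw =>
    comm_mem_right (hLb (hXL hx)) (e ▸ hw)⟩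
  have hgen : W ≤ ⁅W, X⁆ ⊔ Wb := by
    by_contra h
    have hE : ⁅W, X⁆ ⊔ Wb ≤ W := sup_le (comm_le_left (hXL.trans hLW)) hbW
    have hEn := le_normalizer_sup (le_normalizer_comm hLW (oddGenerated_normalized L)) hLb
    have h1 := hsmall _ le_sup_right hE hEn (fun e => h e.ge)
    refine hWne (cmod_two_steps (isPGroup_elem2 hWe) hLW hLb hWb ?_ h1)
    rw [← comm_le_iff_cmod (hXL.trans hEn)]
    exact le_sup_left
  refine ⟨W₀, W, ⟨inf_le_left, hL₀, hLW, hWe, ?_, ?_, ?_, ?_⟩, hb₀, hWU, hX₀, ?_, hsmall'⟩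
  · set R := pCoreOf 2 L with hR
    have hRL : R ≤ L := Large.pCoreOf_le 2 L
    obtain ⟨N', hbN, hN'W, hN'ne, hRN, -⟩ := exists_central_factor (isPGroup_pCoreOf L) (isPGroup_elem2 hWe) hbW hWne'
      (hRL.trans hLW) (hRL.trans hLb) hWb
    have hE : ⁅W, R⁆ ⊔ Wb ≤ W := sup_le (comm_le_left (hRL.trans hLW)) hbW
    have hEne : ⁅W, R⁆ ⊔ Wb ≠ W := fun e => hN'ne (by
      refine le_antisymm hN'W (e.ge.trans (sup_le ?_ hbN))
      rw [comm_le_iff_cmod (fun r hr => (hRN hr).1)]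
      exact hRN)
    have h1 := hsmall' _ le_sup_right hE
      (le_normalizer_sup (le_normalizer_comm hLW (normalizer_pCoreOf L)) hLb) hEne
    rw [← comm_le_iff_cmod (hRL.trans hL₀)]
    exact le_sup_left.trans h1
  · intro u hu hfix
    refine ⟨hu, le_cmod_symm (W := Subgroup.zpowers u) (A := X) (Subgroup.zpowers_le.2 (hWb hu)) ?_
      (Subgroup.mem_zpowers u)⟩
    refine (Subgroup.closure_le _).2 fun x hx => ⟨hLb hx.1, fun w hw => ?_⟩
    have hle : Subgroup.zpowers u ≤ cmod Wb (Subgroup.zpowers x) := by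
      refine Subgroup.zpowers_le.2 ⟨hWb hu, fun x' hx' => comm_swap_mem ?_⟩
      have hmem : x ∈ cmod Wb (Subgroup.zpowers u) := by
        have h1 : ⁅x, u⁆ ∈ Wb := odd_chain (hLb hx.1) (hWb hu) hx.2
          ⟨1, by
            rw [pow_one, pow_two, hWe.2 _ (comm_mem_right (hLW hx.1) hu)]
            exact one_mem _⟩
          ((hX₀ (odd_mem hx.1 hx.2)).2 _ (hfix x (odd_mem hx.1 hx.2)))
        refine ⟨hLb hx.1, fun w' hw' => ?_⟩
        obtain ⟨j, rfl⟩ := Subgroup.mem_zpowers_iff.1 hw'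
        rcases Int.even_or_odd j with ⟨m, rfl⟩ | ⟨m, rfl⟩
        · rw [zpow_add, hWe.2 _ (zpow_mem hu m), commutatorElement_one_right]; exact one_mem _
        · rw [zpow_add, zpow_one, two_mul, zpow_add, hWe.2 _ (zpow_mem hu m), one_mul]; exact h1
      exact (Subgroup.zpowers_le.2 hmem hx').2 u (Subgroup.mem_zpowers u)
    exact comm_swap_mem ((hle hw).2 x (Subgroup.mem_zpowers x))
  · exact hgen.trans (sup_le_sup_left hb₀ _)
  · exact fun h => hWne (le_cmod_symm (hXL.trans hLb) (h.trans inf_le_right))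
  · exact hgen

namespace Sect

variable {T : Sylow 2 Γ} {M L AR W₀ W A : Subgroup Γ} {h : Γ}

/-- The points of `W` fixed by `A` modulo `W₀`. -/
def c1 (W₀ W A : Subgroup Γ) : Subgroup Γ := W ⊓ cmod W₀ A

variable (e : Sect L W₀ W) (l : LSys T M L AR h) (hM : (T : Subgroup Γ) ≤ M) (hA : Mx A) (hle : A ≤ AR)
  (hR : ¬ A ≤ pCoreOf 2 L) (hquad : ∀ w ∈ W, ∀ a ∈ A, ∀ a' ∈ A, ⁅a', ⁅a, w⁆⁆ ∈ W₀)
include e l hM hA hle hR hquad

theorem W_norm : W ≤ Subgroup.normalizer (W₀ : Set Γ) :=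
  le_normalizer_of_comm fun a ha b hb => e.elem.1 a ha b (e.le hb)

theorem W0_le_c1 : W₀ ≤ c1 W₀ W A := le_inf e.le fun u hu =>
  ⟨Subgroup.le_normalizer hu, fun a ha => comm_mem_left (e.n0 (l.AR_L (hle ha))) hu⟩

theorem comm_c1 {w a : Γ} (hw : w ∈ W) (ha : a ∈ A) : ⁅a, w⁆ ∈ c1 W₀ W A :=
  have hm : ⁅a, w⁆ ∈ W := comm_mem_right (e.n1 (l.AR_L (hle ha))) hw
  ⟨hm, W_norm e l hM hA hle hR hquad hm, fun a' ha' => comm_swap_mem (hquad w hw a ha a' ha')⟩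

theorem fixed_all {K : Subgroup Γ} {u : Γ} (hu : u ∈ W) (hK : K ≤ cmod W₀ (Subgroup.zpowers u)) (hLK : L ≤ K) :
    u ∈ W₀ :=
  e.fpf u hu fun _ hx => (hK (hLK (oddGenerated_le L hx))).2 u (Subgroup.mem_zpowers u)

theorem inf_c1 {x : Γ} (hx : x ∈ L) (hxM : x ∉ cj h M) : c1 W₀ W A ⊓ cj x (c1 W₀ W A) ≤ W₀ := by
  intro u hu
  have huW : u ∈ W := hu.1.1
  set K := cmod W₀ (Subgroup.zpowers u)
  have hz : Subgroup.zpowers u ≤ W := Subgroup.zpowers_le.2 huW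
  have h1 : ∀ g ∈ Subgroup.normalizer (W₀ : Set Γ), ⁅g, u⁆ ∈ W₀ → g ∈ K := fun g hg hgu => by
    refine ⟨hg, fun w hw => comm_swap_mem ?_⟩
    have : Subgroup.zpowers u ≤ cmod W₀ (Subgroup.zpowers g) := by
      refine Subgroup.zpowers_le.2 ⟨W_norm e l hM hA hle hR hquad huW, fun g' hg' => comm_swap_mem ?_⟩
      exact (Subgroup.zpowers_le.2 (show g ∈ cmod W₀ (Subgroup.zpowers u) from ⟨hg, fun w' hw' => by
        obtain ⟨j, rfl⟩ := Subgroup.mem_zpowers_iff.1 hw'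
        rcases Int.even_or_odd j with ⟨m, rfl⟩ | ⟨m, rfl⟩
        · rw [zpow_add, e.elem.2 _ (zpow_mem huW m), commutatorElement_one_right]; exact one_mem _
        · rw [zpow_add, zpow_one, two_mul, zpow_add, e.elem.2 _ (zpow_mem huW m), one_mul]; exact hgu⟩) hg').2 u
        (Subgroup.mem_zpowers u)
    exact (this hw).2 g (Subgroup.mem_zpowers g)
  refine fixed_all e l hM hA hle hR hquad huW (K := K) le_rfl ?_
  rw [← l.gen A hA hle hR x hx hxM]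
  refine sup_le (sup_le (fun a ha => h1 a (e.n0 (l.AR_L (hle ha))) (comm_swap_mem (hu.1.2.2 a ha))) ?_)
    fun r hr => h1 r (e.core hr).1 ((e.core hr).2 u huW)
  rintro _ ⟨a, ha, rfl⟩
  refine h1 _ (mul_mem (mul_mem (e.n0 hx) (e.n0 (l.AR_L (hle ha)))) (inv_mem (e.n0 hx))) ?_
  obtain ⟨c, hc, ec⟩ := hu.2
  rw [← ec]
  show ⁅x * a * x⁻¹, x * c * x⁻¹⁆ ∈ W₀
  rw [← comm_conj]
  exact norm_conj e.n0 hx (comm_swap_mem (hc.2.2 a ha))

theorem sup_c1 {x : Γ} (hx : x ∈ L) (hxM : x ∉ cj h M) : c1 W₀ W A ⊔ cj x (c1 W₀ W A) = W := by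
  set C := c1 W₀ W A with hC
  have hCW : cj x C ≤ W := by
    rintro _ ⟨c, hc, rfl⟩
    exact norm_conj e.n1 hx hc.1
  refine le_antisymm (sup_le inf_le_left hCW) ?_
  set E := C ⊔ cj x C with hE
  have hEW : E ≤ W := sup_le inf_le_left hCW
  have hL : L ≤ cmod E W := by
    rw [← l.gen A hA hle hR x hx hxM]
    refine sup_le (sup_le (fun a ha => mem_cmod_of_le hEW fun w hw =>
      Subgroup.mem_sup_left (comm_c1 e l hM hA hle hR hquad hw ha)) ?_) fun r hr => mem_cmod_of_le hEW fun w hw =>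
      Subgroup.mem_sup_left (W0_le_c1 e l hM hA hle hR hquad ((e.core hr).2 w hw))
    rintro _ ⟨a, ha, rfl⟩
    refine mem_cmod_of_le hEW fun w hw => Subgroup.mem_sup_right ?_
    show ⁅x * a * x⁻¹, w⁆ ∈ cj x C
    rw [show w = x * (x⁻¹ * w * x⁻¹⁻¹) * x⁻¹ by group, ← comm_conj]
    exact conj_mem_cj (comm_c1 e l hM hA hle hR hquad (norm_conj e.n1 (inv_mem hx) hw) ha)
  refine e.genX.trans (sup_le ?_ ((W0_le_c1 e l hM hA hle hR hquad).trans le_sup_left))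
  rw [comm_le_iff_cmod fun g hg => (hL (oddGenerated_le L hg)).1]
  exact (oddGenerated_le L).trans hL

theorem mem_c1 {a u : Γ} (ha : a ∈ A) (haR : a ∉ pCoreOf 2 L) (hu : u ∈ W) (hau : ⁅a, u⁆ ∈ W₀) :
    u ∈ c1 W₀ W A := by
  obtain ⟨x, hx, hxM, hxa⟩ := l.exists_out (hle ha) haR (l.AR_M hM (hle ha))
  set C := c1 W₀ W A with hC
  have hu' : u ∈ C ⊔ cj x C := by rw [sup_c1 e l hM hA hle hR hquad hx hxM]; exact hu
  have hCW : cj x C ≤ W := by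
    rintro _ ⟨c, hc, rfl⟩
    exact norm_conj e.n1 hx hc.1
  rw [← SetLike.mem_coe, Subgroup.coe_mul_of_left_le_normalizer_right _ _
    (le_normalizer_of_comm fun a ha b hb => e.elem.1 a (ha : a ∈ C).1 b (hCW hb))] at hu'
  obtain ⟨c, hc, d, hd, rfl⟩ := hu'
  refine mul_mem hc (W0_le_c1 e l hM hA hle hR hquad ?_)
  have hdW := hCW hd
  have had : ⁅a, d⁆ ∈ W₀ := by
    have h1 : ⁅a, d⁆ ∈ W := comm_mem_right (e.n1 (l.AR_L (hle ha))) hdW
    rw [comm_mul_right, e.elem.1 c (hc : c ∈ C).1 _ h1, mul_inv_cancel_right] at hau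
    have h2 := mul_mem (inv_mem (comm_swap_mem ((hc : c ∈ C).2.2 a ha))) hau
    rwa [inv_mul_cancel_left] at h2
  set K := L ⊓ cmod W₀ (Subgroup.zpowers d) with hK
  have hz : ∀ g ∈ Subgroup.normalizer (W₀ : Set Γ), ⁅g, d⁆ ∈ W₀ → g ∈ cmod W₀ (Subgroup.zpowers d) :=
    fun g hg hgd => ⟨hg, fun w' hw' => by
      obtain ⟨j, rfl⟩ := Subgroup.mem_zpowers_iff.1 hw'
      rcases Int.even_or_odd j with ⟨m, rfl⟩ | ⟨m, rfl⟩
      · rw [zpow_add, e.elem.2 _ (zpow_mem hdW m), commutatorElement_one_right]; exact one_mem _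
      · rw [zpow_add, zpow_one, two_mul, zpow_add, e.elem.2 _ (zpow_mem hdW m), one_mul]; exact hgd⟩
  by_cases hKL : K = L
  · exact fixed_all e l hM hA hle hR hquad hdW (K := K) inf_le_right hKL.ge
  exfalso
  refine hxa (mem_cj.2 (l.max A hA hle hR (cj x⁻¹ K) ?_ ?_ ?_))
  · refine sup_le (fun b hb => mem_cj.2 ?_) fun r hr => mem_cj.2 ?_
    · rw [inv_inv]
      refine Subgroup.mem_inf.2 ⟨mul_mem (mul_mem hx (l.AR_L (hle hb))) (inv_mem hx),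
        hz _ (mul_mem (mul_mem (e.n0 hx) (e.n0 (l.AR_L (hle hb)))) (inv_mem (e.n0 hx))) ?_⟩
      obtain ⟨c', hc', rfl⟩ := hd
      show ⁅x * b * x⁻¹, x * c' * x⁻¹⁆ ∈ W₀
      rw [← comm_conj]
      exact norm_conj e.n0 hx (comm_swap_mem (hc'.2.2 b hb))
    · rw [inv_inv]
      have hr' := norm_conj (normalizer_pCoreOf L) hx hr
      exact ⟨Large.pCoreOf_le 2 L hr', hz _ (e.core hr').1 ((e.core hr').2 d hdW)⟩
  · refine lt_of_le_of_ne ?_ fun e' => hKL ?_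
    · rintro _ ⟨k, hk, rfl⟩
      exact mul_mem (mul_mem (inv_mem hx) hk.1) (inv_mem (inv_mem hx))
    · apply cj_inj (g := x⁻¹)
      rw [e', cj_eq_of_normalizer (Subgroup.le_normalizer (inv_mem hx))]
  · refine mem_cj.2 ?_
    simpa [mul_assoc] using (show a ∈ K from ⟨l.AR_L (hle ha), hz a (e.n0 (l.AR_L (hle ha))) had⟩)

theorem card_c1 : (c1 W₀ W A).relIndex W = W₀.relIndex (c1 W₀ W A) := by
  obtain ⟨x, hx, hxM⟩ := Set.not_subset.1 l.not_le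
  set C := c1 W₀ W A with hC
  have h0 : W₀ ≤ C := W0_le_c1 e l hM hA hle hR hquad
  have hinf : C ⊓ cj x C = W₀ := le_antisymm (inf_c1 e l hM hA hle hR hquad hx hxM)
    (le_inf h0 ((cj_eq_of_normalizer (e.n0 hx)).ge.trans (cj_mono x h0)))
  have hsup := sup_c1 e l hM hA hle hR hquad hx hxM
  have hcx : cj x C ≤ W := le_sup_right.trans hsup.le
  have h1 := card_sup_mul_card_inf C (cj x C) fun a ha b hb => e.elem.1 a ha.1 b (hcx hb)
  have hCW : C ≤ W := inf_le_left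
  rw [hsup, hinf, card_cj, ← card_mul_relIndex' hCW, ← card_mul_relIndex' h0] at h1
  refine Nat.eq_of_mul_eq_mul_left (Nat.mul_pos (Nat.card_pos (α := ↥W₀)) (Nat.card_pos (α := ↥C))) ?_
  rw [← card_mul_relIndex' h0] at *
  linarith

theorem index_le : (pCoreOf 2 L).relIndex A ≤ (c1 W₀ W A).relIndex W := by
  rw [card_c1 e l hM hA hle hR hquad]
  set C := c1 W₀ W A with hC
  obtain ⟨i, hi, hiC⟩ : ∃ i ∈ W, i ∉ C := by
    by_contra hno
    push Not at hno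
    obtain ⟨x, hx, hxM⟩ := Set.not_subset.1 l.not_le
    refine e.ne fun w hw => inf_c1 e l hM hA hle hR hquad hx hxM ⟨hno w hw, ?_⟩
    refine mem_cj.2 (hno _ ?_)
    simpa using norm_conj e.n1 (inv_mem hx) hw
  let f : ↥A ⧸ (pCoreOf 2 L).subgroupOf A → ↥C ⧸ W₀.subgroupOf C := fun q =>
    QuotientGroup.mk ⟨⁅((q.out : ↥A) : Γ), i⁆, comm_c1 e l hM hA hle hR hquad hi (q.out : ↥A).2⟩
  refine Nat.card_le_card_of_injective f fun q q' hq => ?_
  rw [← QuotientGroup.out_eq' q, ← QuotientGroup.out_eq' q']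
  refine QuotientGroup.eq.2 ?_
  have h1 := QuotientGroup.eq.1 hq
  set a := (q.out : ↥A) with ha
  set a' := (q'.out : ↥A) with ha'
  change ((a⁻¹ * a' : ↥A) : Γ) ∈ pCoreOf 2 L
  change ⁅(a : Γ), i⁆⁻¹ * ⁅(a' : Γ), i⁆ ∈ W₀ at h1
  set c : Γ := ((a⁻¹ * a' : ↥A) : Γ) with hc
  have hcA : c ∈ A := (a⁻¹ * a' : ↥A).2
  by_contra hcR
  refine hiC (mem_c1 e l hM hA hle hR hquad hcA hcR hi ?_)
  have hac : (a : Γ) * c = a' := by rw [hc]; simp
  rw [← hac, comm_mul_left] at h1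
  have hW1 := comm_mem_right (e.n1 (l.AR_L (hle hcA))) hi
  have hW2 := comm_mem_right (e.n1 (l.AR_L (hle a.2))) hi
  rw [e.elem.1 _ (norm_conj e.n1 (l.AR_L (hle a.2)) hW1) _ hW2, inv_mul_cancel_left] at h1
  have h2 := norm_conj e.n0 (inv_mem (l.AR_L (hle a.2))) h1
  simpa [mul_assoc] using h2

theorem c1_le {a : Γ} (ha : a ∈ A) (haR : a ∉ pCoreOf 2 L) {S : Subgroup Γ} (hS : ∀ w ∈ W, ⁅a, w⁆ ∈ S) :
    c1 W₀ W A ≤ W₀ ⊔ S := by
  set C := c1 W₀ W A with hC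
  let f : ↥W ⧸ C.subgroupOf W → ↥C ⧸ W₀.subgroupOf C := fun q =>
    QuotientGroup.mk ⟨⁅a, ((q.out : ↥W) : Γ)⁆, comm_c1 e l hM hA hle hR hquad (q.out : ↥W).2 ha⟩
  have hf : Function.Injective f := fun q q' hq => by
    rw [← QuotientGroup.out_eq' q, ← QuotientGroup.out_eq' q']
    refine QuotientGroup.eq.2 ?_
    have h1 := QuotientGroup.eq.1 hq
    set w := (q.out : ↥W) with hw
    set w' := (q'.out : ↥W) with hw'
    change ((w⁻¹ * w' : ↥W) : Γ) ∈ C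
    change ⁅a, (w : Γ)⁆⁻¹ * ⁅a, (w' : Γ)⁆ ∈ W₀ at h1
    set c : Γ := ((w⁻¹ * w' : ↥W) : Γ) with hc
    have hcW : c ∈ W := (w⁻¹ * w' : ↥W).2
    refine mem_c1 e l hM hA hle hR hquad ha haR hcW ?_
    have hac : (w : Γ) * c = w' := by rw [hc]; simp
    rw [← hac, comm_mul_right, inv_mul_cancel_left,
      e.elem.1 _ w.2 _ (comm_mem_right (e.n1 (l.AR_L (hle ha))) hcW), mul_inv_cancel_right] at h1
    exact h1
  have hbij : Function.Bijective f :=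
    hf.bijective_of_nat_card_le (card_c1 e l hM hA hle hR hquad).ge
  intro c hc
  obtain ⟨q, hq⟩ := hbij.2 (QuotientGroup.mk ⟨c, hc⟩)
  have hq' : (QuotientGroup.mk (⟨⁅a, ((q.out : ↥W) : Γ)⁆, comm_c1 e l hM hA hle hR hquad (q.out : ↥W).2 ha⟩ : ↥C) :
      ↥C ⧸ W₀.subgroupOf C) = QuotientGroup.mk ⟨c, hc⟩ := hq
  have h0' := QuotientGroup.eq.1 hq'
  have h1 : ⁅a, ((q.out : ↥W) : Γ)⁆⁻¹ * c ∈ W₀ := h0'
  have h2 := mul_mem (Subgroup.mem_sup_right (hS _ (q.out : ↥W).2) : _ ∈ W₀ ⊔ S) (Subgroup.mem_sup_left h1)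
  rwa [mul_inv_cancel_left] at h2

end Sect

end CfsgLib.QTPush.Qrc
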