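import Cfsg.Agent.Lib.QTPush.Qrc.Basic
import Cfsg.Agent.Lib.QTPush.Qrc.Action
import Cfsg.Agent.Lib.PLocal.MaxElemReplacement

/-!
One maximal subgroup over a Sylow subgroup `T` of a group of characteristic 2 and a subgroup `V` of `T` on which no
subgroup of `T` offends quadratically: where the elementary abelian subgroups of largest order lie.
-/

set_option autoImplicit false
set_option linter.unusedSectionVars false

namespace CfsgLib.QTPush.Qrc

open Cfsg CfsgLib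
open scoped commutatorElement Pointwise

universe u

variable {Γ : Type u} [Group Γ] [Finite Γ]

/-- An elementary abelian 2-subgroup of largest order. -/
def Mx (A : Subgroup Γ) : Prop := Elem2 A ∧ ∀ E : Subgroup Γ, Elem2 E → Nat.card E ≤ Nat.card A

theorem elem2_iff {A : Subgroup Γ} : IsElementaryAbelian 2 A ↔ Elem2 A := by
  refine ⟨fun h => ⟨fun a ha b hb => ?_, fun a ha => by rw [← pow_two]; exact h.2 a ha⟩,
    fun h => ⟨⟨⟨fun a b => Subtype.ext (h.1 a a.2 b b.2)⟩⟩, fun a ha => by rw [pow_two]; exact h.2 a ha⟩⟩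
  haveI := h.1
  exact Subgroup.mul_comm_of_mem_isMulCommutative A ha hb

theorem isPGroup_elem2 {A : Subgroup Γ} (h : Elem2 A) : IsPGroup 2 A := fun a =>
  ⟨1, Subtype.ext (by simpa [pow_two] using h.2 a a.2)⟩

theorem elem2_of_le {A B : Subgroup Γ} (h : Elem2 B) (hAB : A ≤ B) : Elem2 A :=
  ⟨fun a ha b hb => h.1 a (hAB ha) b (hAB hb), fun a ha => h.2 a (hAB ha)⟩

theorem elem2_subgroupOf {N A : Subgroup Γ} (h : Elem2 A) (hAN : A ≤ N) :
    Elem2 (A.subgroupOf N) ∧ Nat.card ↥(A.subgroupOf N) = Nat.card A :=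
  ⟨⟨fun a ha b hb => Subtype.ext (h.1 _ ha _ hb), fun a ha => Subtype.ext (h.2 _ ha)⟩,
    Nat.card_congr (Subgroup.subgroupOfEquivOfLe hAN).toEquiv⟩

theorem elem2_map {N : Subgroup Γ} {A : Subgroup ↥N} (h : Elem2 A) :
    Elem2 (A.map N.subtype) ∧ Nat.card ↥(A.map N.subtype) = Nat.card A := by
  refine ⟨⟨?_, ?_⟩, Subgroup.card_map_of_injective N.subtype_injective⟩
  · rintro _ ⟨a, ha, rfl⟩ _ ⟨b, hb, rfl⟩
    exact congrArg Subtype.val (h.1 a ha b hb)
  · rintro _ ⟨a, ha, rfl⟩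
    exact congrArg Subtype.val (h.2 a ha)

/-- Replacement: a quadratic member with the same order. -/
theorem exists_replacement {W A : Subgroup Γ} (hW : Elem2 W) (hA : Mx A)
    (hAW : A ≤ Subgroup.normalizer (W : Set Γ)) :
    ∃ A₀ : Subgroup Γ, Mx A₀ ∧ A₀ ≤ W ⊔ A ∧ (∀ w ∈ W, ∀ a ∈ A₀, ∀ a' ∈ A₀, ⁅a, w⁆ * a' = a' * ⁅a, w⁆) ∧
      (¬ A ≤ Subgroup.centralizer (W : Set Γ) → ¬ A₀ ≤ Subgroup.centralizer (W : Set Γ)) := by
  set N := Subgroup.normalizer (W : Set Γ) with hN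
  have hWN : W ≤ N := Subgroup.le_normalizer
  haveI : (W.subgroupOf N).Normal := Subgroup.normal_in_normalizer
  have hW' : IsElementaryAbelian 2 (W.subgroupOf N) := elem2_iff.2 (elem2_subgroupOf hW hWN).1
  have hA' : A.subgroupOf N ∈ maxElementaryAbelianSubgroups 2 ↥N := by
    refine ⟨elem2_iff.2 (elem2_subgroupOf hA.1 hAW).1, fun E hE => ?_⟩
    have h := elem2_map (elem2_iff.1 hE)
    rw [(elem2_subgroupOf hA.1 hAW).2, ← h.2]
    exact hA.2 _ h.1
  obtain ⟨h1, h2⟩ := PLocal.maxElementary_replacement hW' hA'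
  have h3 := fun hne => PLocal.maxElementary_replacement_ne hW' hA' hne
  set A₁ := ⁅W.subgroupOf N, A.subgroupOf N⁆ ⊔
    (A.subgroupOf N ⊓ Subgroup.centralizer ((⁅W.subgroupOf N, A.subgroupOf N⁆ : Subgroup ↥N) : Set ↥N)) with hA₁
  have hle : A₁ ≤ W.subgroupOf N ⊔ A.subgroupOf N :=
    sup_le ((Subgroup.commutator_le_left _ _).trans le_sup_left) (inf_le_left.trans le_sup_right)
  refine ⟨A₁.map N.subtype, ⟨(elem2_map (elem2_iff.1 h1.1)).1, fun E hE => ?_⟩, ?_, ?_, ?_⟩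
  · rw [(elem2_map (elem2_iff.1 h1.1)).2]
    have := (elem2_subgroupOf hA.1 hAW).2
    have h4 := h1.2 _ hA'.1
    have := hA.2 E hE
    omega
  · refine (Subgroup.map_mono hle).trans ?_
    rw [Subgroup.map_sup, Subgroup.map_subgroupOf_eq_of_le hWN, Subgroup.map_subgroupOf_eq_of_le hAW]
  · rintro w hw _ ⟨a, ha, rfl⟩ _ ⟨a', ha', rfl⟩
    rw [Subgroup.commutator_eq_bot_iff_le_centralizer, Subgroup.commutator_le] at h2
    have h4 := Subgroup.mem_centralizer_iff.1 (h2 ⟨w, hWN hw⟩ hw a ha) a' ha'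
    have h5 : (a' : Γ) * ⁅w, (a : Γ)⁆ = ⁅w, (a : Γ)⁆ * a' := congrArg Subtype.val h4
    show ⁅(a : Γ), w⁆ * (a' : Γ) = (a' : Γ) * ⁅(a : Γ), w⁆
    rw [← commutatorElement_inv]
    exact ((show Commute ⁅w, (a : Γ)⁆ (a' : Γ) from h5.symm).inv_left).eq
  · intro hne hc
    refine h3 (fun e => hne fun a ha => Subgroup.mem_centralizer_iff.2 fun w hw => ?_) ?_
    · have h4 := Subgroup.mem_centralizer_iff.1
        ((Subgroup.commutator_eq_bot_iff_le_centralizer.1 e) (show (⟨w, hWN hw⟩ : ↥N) ∈ W.subgroupOf N from hw))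
        ⟨a, hAW ha⟩ ha
      exact (congrArg Subtype.val h4).symm
    · rw [Subgroup.commutator_eq_bot_iff_le_centralizer]
      refine fun w hw => Subgroup.mem_centralizer_iff.2 fun a ha => Subtype.ext ?_
      exact (Subgroup.mem_centralizer_iff.1 (hc ⟨a, ha, rfl⟩) _ hw).symm

/-- Without quadratic offenders every member of `𝒜` contains the module. -/
theorem le_mx {W A : Subgroup Γ} (hW : Elem2 W) (hA : Mx A) (hAW : A ≤ Subgroup.normalizer (W : Set Γ))
    (hq : ∀ B : Subgroup Γ, B ≤ W ⊔ A → ¬ B ≤ Subgroup.centralizer (W : Set Γ) →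
      (∀ v ∈ W, ∀ b ∈ B, ∀ b' ∈ B, ⁅b, v⁆ * b' = b' * ⁅b, v⁆) →
      (Subgroup.centralizer (W : Set Γ)).relIndex B ^ 2 < (W ⊓ Subgroup.centralizer (B : Set Γ)).relIndex W) :
    W ≤ A := by
  have hc : A ≤ Subgroup.centralizer (W : Set Γ) := by
    by_contra hne
    obtain ⟨A₀, hA₀, hle, hquad, hne₀⟩ := exists_replacement hW hA hAW
    have hlt := hq A₀ hle (hne₀ hne) hquad
    set C := A₀ ⊓ Subgroup.centralizer (W : Set Γ) with hC
    have hcom : ∀ a ∈ C, ∀ v ∈ W, a * v = v * a := fun a ha v hv =>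
      (Subgroup.mem_centralizer_iff.1 ha.2 v hv).symm
    have h1 := hA₀.2 _ (elem2_sup (elem2_of_le hA₀.1 inf_le_left) hW hcom)
    have h2 := card_sup_mul_card_inf C (W) hcom
    have h3 : Nat.card ↥(C ⊓ W) ≤ Nat.card ↥(W ⊓ Subgroup.centralizer (A₀ : Set Γ)) :=
      Subgroup.card_le_of_le fun x hx => ⟨hx.2, Subgroup.mem_centralizer_iff.2 fun a ha => hA₀.1.1 a ha x hx.1.1⟩
    have h4 : Nat.card C * (Subgroup.centralizer (W : Set Γ)).relIndex A₀ = Nat.card A₀ := by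
      rw [← Subgroup.inf_relIndex_left]; exact card_mul_relIndex' inf_le_left
    have h5 : Nat.card ↥(W ⊓ Subgroup.centralizer (A₀ : Set Γ)) *
        (W ⊓ Subgroup.centralizer (A₀ : Set Γ)).relIndex (W) = Nat.card ↥(W) :=
      card_mul_relIndex' inf_le_left
    have hpos : 0 < Nat.card C := Nat.card_pos
    have hpos2 : 0 < Nat.card ↥(W ⊓ Subgroup.centralizer (A₀ : Set Γ)) := Nat.card_pos
    set c := (W ⊓ Subgroup.centralizer (A₀ : Set Γ)).relIndex (W)
    set b := (Subgroup.centralizer (W : Set Γ)).relIndex A₀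
    set n := Nat.card ↥(W ⊓ Subgroup.centralizer (A₀ : Set Γ))
    have h6 : Nat.card C * (n * c) ≤ Nat.card C * b * n := by
      rw [h5, ← h2, h4]
      exact Nat.mul_le_mul h1 h3
    have h7 : c ≤ b := by
      refine (Nat.mul_le_mul_left_iff (Nat.mul_pos hpos hpos2)).1 ?_
      linarith
    nlinarith
  intro v hv
  have hle := Subgroup.eq_of_le_of_card_ge (le_sup_left : A ≤ A ⊔ W)
    (hA.2 _ (elem2_sup hA.1 hW fun a ha w hw => (Subgroup.mem_centralizer_iff.1 (hc ha) w hw).symm))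
  rw [hle]
  exact Subgroup.mem_sup_right hv


/-- The situation: `V` is not normal, and no subgroup of `T` offends quadratically on it. -/
structure Setup (T : Sylow 2 Γ) (M V : Subgroup Γ) : Prop where
  le_M : (T : Subgroup Γ) ≤ M
  M_ne : M ≠ ⊤
  uniq : ∀ K : Subgroup Γ, (T : Subgroup Γ) ≤ K → K ≠ ⊤ → K ≤ M
  vT : V ≤ (T : Subgroup Γ)
  tV : (T : Subgroup Γ) ≤ Subgroup.normalizer (V : Set Γ)
  velem : Elem2 V
  vn : ¬ V.Normal
  char2 : Subgroup.centralizer (pCore 2 Γ : Set Γ) ≤ pCore 2 Γ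
  zn : (omegaOneCenter 2 (T : Subgroup Γ)).Normal
  hJ : ¬ thompsonSubgroupOf 2 (T : Subgroup Γ) ≤ pCore 2 Γ
  hq : ∀ B : Subgroup Γ, B ≤ (T : Subgroup Γ) → InducesElemAbelianTwoGroupOn B V → ⁅⁅V, B⁆, B⁆ = ⊥ →
    (Subgroup.centralizer (V : Set Γ)).relIndex B ^ 2 < (V ⊓ Subgroup.centralizer (B : Set Γ)).relIndex V

namespace Setup

variable {T : Sylow 2 Γ} {M V : Subgroup Γ} (s : Setup T M V)
include s

/-- No quadratic offender on a conjugate of `V`. -/
theorem hq_at {h : Γ} {B : Subgroup Γ} (hB : B ≤ cj h (T : Subgroup Γ))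
    (hne : ¬ B ≤ Subgroup.centralizer (cj h V : Set Γ))
    (hquad : ∀ v ∈ cj h V, ∀ b ∈ B, ∀ b' ∈ B, ⁅b, v⁆ * b' = b' * ⁅b, v⁆) :
    (Subgroup.centralizer (cj h V : Set Γ)).relIndex B ^ 2 <
      (cj h V ⊓ Subgroup.centralizer (B : Set Γ)).relIndex (cj h V) := by
  set B' := cj h⁻¹ B with hB'
  have hBB : cj h B' = B := by rw [hB', ← cj_mul, mul_inv_cancel, cj_one]
  have hB'T : B' ≤ (T : Subgroup Γ) := cj_le_cj.1 (hBB ▸ hB)
  have hne' : ¬ B' ≤ Subgroup.centralizer (V : Set Γ) := fun e => hne (by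
    rw [← hBB, ← cj_centralizer]; exact cj_mono h e)
  have hquad' : ∀ v ∈ V, ∀ b ∈ B', ∀ b' ∈ B', ⁅b, v⁆ * b' = b' * ⁅b, v⁆ := fun v hv b hb b' hb' => by
    have h1 := hquad _ (conj_mem_cj hv) _ (hBB ▸ conj_mem_cj hb) _ (hBB ▸ conj_mem_cj hb')
    rw [← comm_conj] at h1
    have h2 := commute_conj (g := h⁻¹) (show Commute _ _ from h1)
    have e : ∀ y : Γ, h⁻¹ * (h * y * h⁻¹) * h⁻¹⁻¹ = y := fun y => by group
    rw [e, e] at h2
    exact h2.eq
  have hlt := s.hq B' hB'T (induces_of_quad s.velem (hB'T.trans s.tV) hquad' hne') (comm2_eq_bot hquad')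
  rwa [← cj_relIndex h (Subgroup.centralizer (V : Set Γ)), ← cj_relIndex h (V ⊓ _), cj_inf, cj_centralizer,
    cj_centralizer, hBB] at hlt

/-- Two conjugates of `V` in each other's Sylow subgroups commute. -/
theorem mutual_v {a b : Γ} (h1 : cj a V ≤ cj b (T : Subgroup Γ)) (h2 : cj b V ≤ cj a (T : Subgroup Γ)) :
    cj a V ≤ Subgroup.centralizer (cj b V : Set Γ) := by
  by_contra hne
  have hn : ∀ g, cj g (T : Subgroup Γ) ≤ Subgroup.normalizer (cj g V : Set Γ) := fun g =>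
    (cj_mono g s.tV).trans (Subgroup.le_normalizer_map _)
  have hmem : ∀ v ∈ cj a V, ∀ w ∈ cj b V, ⁅v, w⁆ ∈ cj a V ∧ ⁅v, w⁆ ∈ cj b V := fun v hv w hw =>
    ⟨comm_mem_left (hn a (h2 hw)) hv, comm_mem_right (hn b (h1 hv)) hw⟩
  have hA := s.hq_at (h := b) h1 hne fun w hw v hv v' hv' =>
    (s.velem.cj a).1 _ (hmem v hv w hw).1 v' hv'
  have hB := s.hq_at (h := a) h2 (fun e => hne (Subgroup.le_centralizer_iff.1 e))
    fun v hv w hw w' hw' => by
      rw [← commutatorElement_inv]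
      exact ((show Commute ⁅v, w⁆ w' from (s.velem.cj b).1 _ (hmem v hv w hw).2 w' hw').inv_left).eq
  have e1 : ∀ g k : Γ, (Subgroup.centralizer (cj g V : Set Γ)).relIndex (cj k V) =
      (cj k V ⊓ Subgroup.centralizer (cj g V : Set Γ)).relIndex (cj k V) := fun g k => by
    rw [Subgroup.inf_relIndex_left]
  rw [e1] at hA hB
  nlinarith [hA, hB]

/-- Members of `𝒜` in a Sylow subgroup contain its conjugate of `V`. -/
theorem mx_v {A : Subgroup Γ} {h : Γ} (hA : Mx A) (hAT : A ≤ cj h (T : Subgroup Γ)) : cj h V ≤ A :=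
  le_mx (s.velem.cj h) hA (hAT.trans ((cj_mono h s.tV).trans (Subgroup.le_normalizer_map _)))
    fun _ hB hne hquad => s.hq_at (hB.trans (sup_le (cj_mono h s.vT) hAT)) hne hquad

omit s in
theorem le_cj_sylow {A : Subgroup Γ} (hA : IsPGroup 2 A) : ∃ g, A ≤ cj g (T : Subgroup Γ) := by
  obtain ⟨P, hP⟩ := hA.exists_le_sylow
  obtain ⟨g, rfl⟩ := MulAction.exists_smul_eq Γ T P
  refine ⟨g, fun a ha => mem_cj.2 ?_⟩
  have := hP ha
  obtain ⟨t, ht, e⟩ := this
  rw [show a = g * t * g⁻¹ from e.symm]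
  simpa [mul_assoc] using SetLike.mem_coe.1 ht

/-- A member of `𝒜` in `T` outside the core. -/
theorem exists_mx : ∃ A : Subgroup Γ, Mx A ∧ A ≤ (T : Subgroup Γ) ∧ ¬ A ≤ pCore 2 Γ := by
  by_contra hno
  push Not at hno
  refine s.hJ (Subgroup.map_le_iff_le_comap.2 (sSup_le fun A hA => ?_))
  refine Subgroup.map_le_iff_le_comap.1 (hno _ ⟨(elem2_map (elem2_iff.1 hA.1)).1, fun E hE => ?_⟩
    (Subgroup.map_subtype_le _))
  obtain ⟨g, hg⟩ := le_cj_sylow (T := T) (isPGroup_elem2 hE)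
  have hE' : cj g⁻¹ E ≤ (T : Subgroup Γ) := by
    have := cj_mono g⁻¹ hg
    rwa [← cj_mul, inv_mul_cancel, cj_one] at this
  have h := elem2_subgroupOf (hE.cj g⁻¹) hE'
  rw [(elem2_map (elem2_iff.1 hA.1)).2, ← card_cj g⁻¹ E, ← h.2]
  exact hA.2 _ (elem2_iff.2 h.1)

theorem normalizer_cj_v (g : Γ) : Subgroup.normalizer (cj g V : Set Γ) ≤ cj g M := by
  have h : Subgroup.normalizer (V : Set Γ) ≤ M :=
    s.uniq _ s.tV fun e => s.vn (Subgroup.normalizer_eq_top_iff.1 e)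
  intro x hx
  refine mem_cj.2 (h (mem_normalizer_of_cj ?_))
  rw [cj_mul, cj_mul, cj_eq_of_normalizer hx, ← cj_mul, inv_mul_cancel, cj_one]

theorem sylow_not_normal : ¬ (T : Subgroup Γ).Normal := fun hn => s.hJ
  ((Subgroup.map_subtype_le _).trans (by haveI := hn; exact le_pCore T.2))

theorem frattini {N : Subgroup Γ} [N.Normal] (hN : N ≤ M) : (T : Subgroup Γ) ⊓ N ≤ pCore 2 Γ := by
  have hTn : (T : Subgroup Γ) ≤ Subgroup.normalizer (((T : Subgroup Γ) ⊓ N : Subgroup Γ) : Set Γ) :=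
    le_normalizer_inf Subgroup.le_normalizer (by rw [Subgroup.normalizer_eq_top]; exact le_top)
  have htop : Subgroup.normalizer (((T : Subgroup Γ) ⊓ N : Subgroup Γ) : Set Γ) = ⊤ := by
    by_contra hne
    refine s.M_ne (eq_top_iff.2 ?_)
    rw [← RootBlocks.frattini_inf T (K := N)]
    exact sup_le (s.uniq _ hTn hne) hN
  haveI := Subgroup.normalizer_eq_top_iff.1 htop
  exact le_pCore (T.2.to_le inf_le_left)

/-- `Ω₁(Z(T))` is central. -/
theorem central {z : Γ} (hz : z ∈ omegaOneCenter 2 (T : Subgroup Γ)) (g : Γ) : g * z = z * g := by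
  haveI := s.zn
  set C := Subgroup.centralizer (omegaOneCenter 2 (T : Subgroup Γ) : Set Γ) with hC
  haveI : C.Normal := Subgroup.normalizer_eq_top_iff.1 (eq_top_iff.2 fun g _ =>
    BBlock.normalizer_le_normalizer_centralizer _ (by rw [Subgroup.normalizer_eq_top]; trivial))
  have hTC : (T : Subgroup Γ) ≤ C := fun t ht => Subgroup.mem_centralizer_iff.2 fun y hy =>
    (BBlock.omegaOneCenter_comm 2 _ hy ht).symm
  have hCtop : C = ⊤ := by
    by_contra hne
    refine s.sylow_not_normal ?_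
    have h1 := s.frattini (s.uniq C hTC hne)
    rw [inf_eq_left.2 hTC] at h1
    rw [le_antisymm h1 (pCore_le_sylow T)]
    infer_instance
  exact (Subgroup.mem_centralizer_iff.1 (hCtop ▸ Subgroup.mem_top g : g ∈ C) z hz).symm

/-- Elements of odd order centralize `Ω₁(Z(O₂))`. -/
theorem odd_fix {x y : Γ} (hx : Odd (orderOf x)) (hy : y ∈ omegaOneCenter 2 (pCore 2 Γ)) : x * y = y * x := by
  set Q := pCore 2 Γ with hQ
  set Y := omegaOneCenter 2 Q with hY
  have hYn : ⊤ ≤ Subgroup.normalizer (Y : Set Γ) :=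
    (Subgroup.normalizer_eq_top (H := Q)).ge.trans (BBlock.normalizer_le_normalizer_omegaOneCenter 2 Q)
  haveI : Y.Normal := Subgroup.normalizer_eq_top_iff.1 (eq_top_iff.2 hYn)
  haveI hCn : (Subgroup.centralizer (Y : Set Γ)).Normal :=
    Subgroup.normalizer_eq_top_iff.1 (eq_top_iff.2 (le_normalizer_centralizer hYn))
  by_cases hCM : Subgroup.centralizer (Y : Set Γ) ≤ M
  swap
  · have htop : (T : Subgroup Γ) ⊔ Subgroup.centralizer (Y : Set Γ) = ⊤ := by
      by_contra hne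
      exact hCM (le_sup_right.trans (s.uniq _ le_sup_left hne))
    have h := oddGenerated_le_of_sup (L := (⊤ : Subgroup Γ)) (N := Subgroup.centralizer (Y : Set Γ)) (P := (T : Subgroup Γ))
      (by rw [Subgroup.normalizer_eq_top]) T.2 le_top (by rw [sup_comm, htop]) (odd_mem (Subgroup.mem_top x) hx)
    exact (Subgroup.mem_centralizer_iff.1 h y hy).symm
  exfalso
  have hYe : Elem2 Y := ⟨fun a ha b hb => (BBlock.omegaOneCenter_comm 2 Q hb (BBlock.omegaOneCenter_le 2 Q ha)),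
    fun a ha => by rw [← pow_two]; exact BBlock.omegaOneCenter_pow 2 Q ha⟩
  have act : Act Y T M := ⟨inferInstance, elem2_iff.2 hYe, s.le_M, s.M_ne, s.uniq, hCM, fun N hN hNM => by
    haveI := hN
    intro t ht
    refine Subgroup.mem_centralizer_iff.2 fun z hz => (BBlock.omegaOneCenter_comm 2 Q hz (s.frattini hNM ht)).symm ▸ rfl⟩
  obtain ⟨A, hA, hAT, hAQ⟩ := s.exists_mx
  have hAne : ¬ A ≤ Subgroup.centralizer (Y : Set Γ) := fun h => hAQ ((le_inf hAT h).trans (s.frattini hCM))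
  set C := A ⊓ Subgroup.centralizer (Y : Set Γ) with hC
  have hcom : ∀ a ∈ C, ∀ z ∈ Y, a * z = z * a := fun a ha z hz => (Subgroup.mem_centralizer_iff.1 ha.2 z hz).symm
  have h1 := hA.2 _ (elem2_sup (elem2_of_le hA.1 inf_le_left) hYe hcom)
  have h2 := card_sup_mul_card_inf C Y hcom
  have h3 : Nat.card ↥(C ⊓ Y) ≤ Nat.card ↥(Y ⊓ Subgroup.centralizer (A : Set Γ)) :=
    Subgroup.card_le_of_le fun z hz => ⟨hz.2, Subgroup.mem_centralizer_iff.2 fun a ha => hA.1.1 a ha z hz.1.1⟩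
  have h4 : Nat.card C * (Subgroup.centralizer (Y : Set Γ)).relIndex A = Nat.card A := by
    rw [← Subgroup.inf_relIndex_left]; exact card_mul_relIndex' inf_le_left
  obtain ⟨z, hz, hzT, g, hg⟩ := act.moved hAT (fun a ha => by rw [pow_two, hA.1.2 a ha]; exact one_mem _)
    (fun a ha b hb => by rw [hA.1.1 a ha b hb, mul_inv_cancel_right, mul_inv_cancel]; exact one_mem _) hAne (by
      refine (Nat.mul_le_mul_left_iff (Nat.card_pos (α := ↥C))).1 ?_
      rw [← h2, ← mul_assoc, h4]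
      exact Nat.mul_le_mul h1 h3)
  refine hg (s.central (Subgroup.subset_closure ⟨⟨?_, ?_⟩, BBlock.omegaOneCenter_pow 2 Q hz⟩) g)
  · exact pCore_le_sylow T (BBlock.omegaOneCenter_le 2 Q hz)
  · exact Subgroup.mem_centralizer_iff.2 hzT

end Setup

end CfsgLib.QTPush.Qrc
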