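import Cfsg.Agent.Lib.QTPush.Qrc.Setup
import Cfsg.Agent.S2834

/-!
A smallest subgroup in which a member of `𝒜` generates with each conjugate from outside a maximal subgroup.
-/

set_option autoImplicit false
set_option linter.unusedSectionVars false

namespace CfsgLib.QTPush.Qrc

open Cfsg CfsgLib
open scoped commutatorElement Pointwise

universe u

variable {Γ : Type u} [Group Γ] [Finite Γ]

/-- The shape given by the L-lemma. -/
def Shape (M : Subgroup Γ) (g : Γ) (A L : Subgroup Γ) : Prop :=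
  A ≤ L ∧ A ⊔ pCoreOf 2 L ≤ cj g M ∧ ¬ L ≤ cj g M ∧ ¬ A ≤ pCoreOf 2 L ∧
    (∀ X : Subgroup Γ, A ⊔ pCoreOf 2 L ≤ X → X < L → X ≤ cj g M) ∧
    ∀ x ∈ L, x ∉ cj g M → A ⊔ cj x A ⊔ pCoreOf 2 L = L

theorem shape_of_good {M L A : Subgroup Γ} {g : Γ} (hAL : A ≤ L) (hle : A ⊔ pCoreOf 2 L ≤ L ⊓ cj g M)
    (hlt : L ⊓ cj g M < L) (hu : ∀ X : Subgroup Γ, A ⊔ pCoreOf 2 L ≤ X → X < L → X ≤ L ⊓ cj g M)
    (hgen : ∀ x ∈ L, x ∉ L ⊓ cj g M → A ⊔ cj x A ⊔ pCoreOf 2 L = L) {B : Subgroup Γ} (hBA : B ≤ A)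
    (hAB : A ≤ B ⊔ pCoreOf 2 L) : Shape M g B L := by
  have hsup : B ⊔ pCoreOf 2 L = A ⊔ pCoreOf 2 L :=
    le_antisymm (sup_le (hBA.trans le_sup_left) le_sup_right) (sup_le hAB le_sup_right)
  have hnle : ¬ L ≤ cj g M := fun h => hlt.not_ge (le_inf le_rfl h)
  obtain ⟨x, hxL, hxM⟩ := Set.not_subset.1 hnle
  have hgen' : ∀ x ∈ L, x ∉ cj g M → B ⊔ cj x B ⊔ pCoreOf 2 L = L := fun x hx hxM => by
    refine le_antisymm (sup_le (sup_le (hBA.trans hAL) ?_) (Large.pCoreOf_le 2 L)) ?_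
    · rintro _ ⟨b, hb, rfl⟩
      exact mul_mem (mul_mem hx (hAL (hBA hb))) (inv_mem hx)
    · conv_lhs => rw [← hgen x hx fun h => hxM h.2]
      refine sup_le (sup_le (hAB.trans (sup_le (le_sup_left.trans le_sup_left) le_sup_right)) ?_) le_sup_right
      refine (cj_mono x hAB).trans ?_
      rw [cj, Subgroup.map_sup]
      refine sup_le (le_sup_right.trans le_sup_left) ?_
      exact (cj_eq_of_normalizer (normalizer_pCoreOf L hx)).le.trans le_sup_right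
  refine ⟨hBA.trans hAL, hsup ▸ hle.trans inf_le_right, hnle, fun h => ?_, fun X h1 h2 =>
    (hu X (hsup ▸ h1) h2).trans inf_le_right, hgen'⟩
  refine hnle ?_
  rw [← hgen' x hxL hxM]
  have hx : cj x B ≤ pCoreOf 2 L := (cj_mono x h).trans (cj_eq_of_normalizer (normalizer_pCoreOf L hxL)).le
  exact sup_le (sup_le (h.trans (le_sup_right.trans (hle.trans inf_le_right))) (hx.trans (le_sup_right.trans (hle.trans inf_le_right))))
    (le_sup_right.trans (hle.trans inf_le_right))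

theorem pCoreOf_top : pCoreOf 2 (⊤ : Subgroup Γ) = pCore 2 Γ := by
  refine le_antisymm ?_ (le_pCoreOf le_top (by rw [Subgroup.normalizer_eq_top]) (isPGroup_pCore 2))
  haveI := Subgroup.normalizer_eq_top_iff.1 (eq_top_iff.2 (normalizer_pCoreOf (⊤ : Subgroup Γ)))
  exact le_pCore (isPGroup_pCoreOf _)

/-- A smallest one, with its conjugate of `V`. -/
structure LSys (T : Sylow 2 Γ) (M : Subgroup Γ) (L AR : Subgroup Γ) (h : Γ) : Prop where
  Q_le : pCore 2 Γ ≤ L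
  AR_le : AR ≤ cj h (T : Subgroup Γ)
  AR_L : AR ≤ L
  not_le : ¬ L ≤ cj h M
  R_le : pCoreOf 2 L ≤ AR
  exA : ∃ A : Subgroup Γ, Mx A ∧ A ≤ AR ∧ ¬ A ≤ pCoreOf 2 L
  max : ∀ A : Subgroup Γ, Mx A → A ≤ AR → ¬ A ≤ pCoreOf 2 L →
    ∀ X : Subgroup Γ, A ⊔ pCoreOf 2 L ≤ X → X < L → X ≤ cj h M
  gen : ∀ A : Subgroup Γ, Mx A → A ≤ AR → ¬ A ≤ pCoreOf 2 L → ∀ x ∈ L, x ∉ cj h M →
    A ⊔ cj x A ⊔ pCoreOf 2 L = L

namespace Setup

variable {T : Sylow 2 Γ} {M V : Subgroup Γ} (s : Setup T M V)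
include s

theorem exists_lsys : ∃ (L AR : Subgroup Γ) (h : Γ), LSys T M L AR h := by
  classical
  obtain ⟨A₀, hA₀, hA₀T, hA₀Q⟩ := s.exists_mx
  set Q := pCore 2 Γ with hQ
  have hQT : Q ≤ (T : Subgroup Γ) := pCore_le_sylow T
  -- one such subgroup
  obtain ⟨L, g, hQL, hL⟩ : ∃ (L : Subgroup Γ) (g : Γ), Q ≤ L ∧ Shape M g A₀ L := by
    have hmap : ((T.subtype (le_top : (T : Subgroup Γ) ≤ ⊤) : Sylow 2 ↥(⊤ : Subgroup Γ)) :
        Subgroup ↥(⊤ : Subgroup Γ)).map (⊤ : Subgroup Γ).subtype = (T : Subgroup Γ) := by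
      rw [Sylow.coe_subtype, Subgroup.map_subgroupOf_eq_of_le le_top]
    have hAQ : IsPGroup 2 ↥(A₀ ⊔ Q) := T.2.to_le (sup_le hA₀T hQT)
    obtain ⟨L, g, -, hAL, hle, hlt, hu, hgen⟩ := Cfsg.Agent.S2834.main (p := 2) (M := M) _ (⊤ : Subgroup Γ) rfl 1
      (T.subtype le_top) (by rw [hmap, Cfsg.Agent.S2834.map_conj_one]; exact s.le_M)
      (by rw [Cfsg.Agent.S2834.map_conj_one]; exact fun h => s.M_ne (top_le_iff.1 h))
      (fun X h1 h2 => by
        rw [Cfsg.Agent.S2834.map_conj_one]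
        exact s.uniq X (hmap ▸ h1) h2.ne) (A₀ ⊔ Q) le_top hAQ (pCoreOf_top.le.trans le_sup_right)
      (fun h => hA₀Q (le_sup_left.trans (h.trans pCoreOf_top.le)))
    have hQL : Q ≤ L := le_sup_right.trans hAL
    have hQR : Q ≤ pCoreOf 2 L := le_pCoreOf hQL (by rw [Subgroup.normalizer_eq_top]; exact le_top) (isPGroup_pCore 2)
    exact ⟨L, g, hQL, shape_of_good hAL hle hlt hu hgen le_sup_left (sup_le le_sup_left (hQR.trans le_sup_right))⟩
  -- a smallest one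
  obtain ⟨L, ⟨hQL, A, g, hA, hS⟩, hmin⟩ := Set.exists_min_image {L : Subgroup Γ | Q ≤ L ∧
    ∃ A g, Mx A ∧ Shape M g A L} (fun L => Nat.card L) (Set.toFinite _) ⟨L, hQL, A₀, g, hA₀, hL⟩
  obtain ⟨hAL, hle, hnle, hAR, hu, hgen⟩ := hS
  set R := pCoreOf 2 L with hR
  have hQR : Q ≤ R := le_pCoreOf hQL (by rw [Subgroup.normalizer_eq_top]; exact le_top) (isPGroup_pCore 2)
  have hRL : R ≤ L := Large.pCoreOf_le 2 L
  have hARp : IsPGroup 2 ↥(A ⊔ R) :=
    (isPGroup_elem2 hA.1).to_sup_of_normal_right' (isPGroup_pCoreOf L) (hAL.trans (normalizer_pCoreOf L))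
  have hlt : L ⊓ cj g M < L := lt_of_le_of_ne inf_le_left fun e => hnle (e ▸ inf_le_right)
  obtain ⟨P, hPL, hPA⟩ := Cfsg.Agent.S2834.sylow_of_unique (isPGroup_elem2 hA.1) hAL (inf_le_left : L ⊓ cj g M ≤ L)
    (le_inf (sup_le hAL hRL) hle) (fun X h1 h2 => le_inf h2.le (hu X h1 h2)) hAR
  -- every member of `𝒜` in `A ⊔ R` outside the core has the shape
  have key : ∀ A' : Subgroup Γ, Mx A' → A' ≤ A ⊔ R → ¬ A' ≤ R → Shape M g A' L := by
    intro A' hA' hle' hnR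
    obtain ⟨L', g', hL'L, hAL', hle2, hlt2, hu2, hgen2⟩ := Cfsg.Agent.S2834.main (p := 2) (M := M) _ L rfl g P
      (hPL.trans inf_le_right) hnle (fun X h1 h2 => hu X (hPA.trans h1) h2) (A' ⊔ R)
      (sup_le (hle'.trans (sup_le hAL hRL)) hRL) (hARp.to_le (sup_le hle' le_sup_right)) le_sup_right
      (fun h => hnR (le_sup_left.trans h))
    have hRL' : R ≤ L' := le_sup_right.trans hAL'
    have hRR' : R ≤ pCoreOf 2 L' := le_pCoreOf hRL' (hL'L.trans (normalizer_pCoreOf L)) (isPGroup_pCoreOf L)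
    have hS' : Shape M g' A' L' := shape_of_good hAL' hle2 hlt2 hu2 hgen2 le_sup_left
      (sup_le le_sup_left (hRR'.trans le_sup_right))
    have hLL' : L' = L := Subgroup.eq_of_le_of_card_ge hL'L
      (hmin L' ⟨hQR.trans hRL', A', g', hA', hS'⟩)
    rw [hLL'] at hS'
    obtain ⟨h1, h2, h3, h4, h5, h6⟩ := hS'
    have e1 : L ⊓ cj g M ≤ cj g' M := h5 _ (le_inf (sup_le h1 hRL) (le_trans (sup_le hle' le_sup_right) hle)) hlt
    have hlt' : L ⊓ cj g' M < L := lt_of_le_of_ne inf_le_left fun e => h3 (e ▸ inf_le_right)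
    have e2 : L ⊓ cj g' M ≤ cj g M := hu _ (le_trans (le_inf (sup_le hAL hRL) hle) (le_inf inf_le_left e1)) hlt'
    refine ⟨h1, (sup_le hle' le_sup_right).trans hle, hnle, h4, fun X hX hlt => ?_, fun x hx hxM => ?_⟩
    · exact (le_inf hlt.le (h5 X hX hlt)).trans e2
    · exact h6 x hx fun h => hxM (e2 ⟨hx, h⟩)
  -- move `g` inside `M`
  obtain ⟨h, hh, hhM⟩ : ∃ h, A ⊔ R ≤ cj h (T : Subgroup Γ) ∧ cj h M = cj g M := by
    have hle' : cj g⁻¹ (A ⊔ R) ≤ M := by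
      have := cj_mono g⁻¹ hle
      rwa [← cj_mul, inv_mul_cancel, cj_one] at this
    obtain ⟨P', hP'⟩ := ((hARp.map (MulAut.conj g⁻¹).toMonoidHom).of_equiv
      (Subgroup.subgroupOfEquivOfLe hle').symm).exists_le_sylow
    obtain ⟨m, rfl⟩ := MulAction.exists_smul_eq ↥M (T.subtype s.le_M) P'
    refine ⟨g * (m : Γ), fun a ha => ?_, by rw [cj_mul, cj_eq_of_normalizer (Subgroup.le_normalizer m.2)]⟩
    have h1 : g⁻¹ * a * g⁻¹⁻¹ ∈ cj g⁻¹ (A ⊔ R) := conj_mem_cj ha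
    obtain ⟨t, ht, e⟩ := hP' (show (⟨_, hle' h1⟩ : ↥M) ∈ (cj g⁻¹ (A ⊔ R)).subgroupOf M from h1)
    have e' : (m : Γ) * (t : Γ) * (m : Γ)⁻¹ = g⁻¹ * a * g⁻¹⁻¹ := congrArg Subtype.val e
    refine mem_cj.2 ?_
    have ht' : (t : Γ) ∈ (T : Subgroup Γ) := by
      rw [SetLike.mem_coe, Sylow.coe_subtype] at ht
      exact ht
    rwa [show (g * (m : Γ))⁻¹ * a * (g * (m : Γ)) = t by
      calc (g * (m : Γ))⁻¹ * a * (g * (m : Γ)) = (m : Γ)⁻¹ * (g⁻¹ * a * g⁻¹⁻¹) * m := by group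
        _ = t := by rw [← e']; group]
  refine ⟨L, A ⊔ R, h, hQL, hh, sup_le hAL hRL, hhM ▸ hnle, le_sup_right, ⟨A, hA, le_sup_left, hAR⟩,
    fun A' h1 h2 h3 => ?_, fun A' h1 h2 h3 x hx hxM => ?_⟩
  · rw [hhM]; exact (key A' h1 h2 h3).2.2.2.2.1
  · exact (key A' h1 h2 h3).2.2.2.2.2 x hx (hhM ▸ hxM)

end Setup

namespace LSys

variable {T : Sylow 2 Γ} {M L AR : Subgroup Γ} {h : Γ} (l : LSys T M L AR h)
include l

omit l in
theorem core_normal : L ≤ Subgroup.normalizer (pCoreOf 2 L : Set Γ) := normalizer_pCoreOf L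

theorem Q_core : pCore 2 Γ ≤ pCoreOf 2 L :=
  le_pCoreOf l.Q_le (by rw [Subgroup.normalizer_eq_top]; exact le_top) (isPGroup_pCore 2)

theorem AR_p : IsPGroup 2 AR := (T.2.map (MulAut.conj h).toMonoidHom).to_le l.AR_le

theorem AR_M (hM : (T : Subgroup Γ) ≤ M) : AR ≤ cj h M := l.AR_le.trans (cj_mono h hM)

theorem dichotomy (hM : (T : Subgroup Γ) ≤ M) {N : Subgroup Γ} (hNL : N ≤ L)
    (hN : L ≤ Subgroup.normalizer (N : Set Γ)) : oddGenerated L ≤ N ∨ N ≤ cj h M := by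
  by_cases hlt : N ⊔ AR = L
  · exact Or.inl (oddGenerated_le_of_sup hN l.AR_p l.AR_L hlt.ge)
  · obtain ⟨A, hA, hAle, hAR⟩ := l.exA
    exact Or.inr (le_sup_left.trans (l.max A hA hAle hAR _ ((sup_le hAle l.R_le).trans le_sup_right)
      (lt_of_le_of_ne (sup_le hNL l.AR_L) hlt)))

theorem frattini_sylow {N : Subgroup Γ} (hNL : N ≤ L) (hN : L ≤ Subgroup.normalizer (N : Set Γ)) (hNM : N ≤ cj h M)
    (P : Sylow 2 ↥L) (hAP : AR ≤ (P : Subgroup ↥L).map L.subtype) :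
    (P : Subgroup ↥L).map L.subtype ⊓ N ≤ pCoreOf 2 L := by
  obtain ⟨A, hA, hAle, hAR⟩ := l.exA
  haveI hNn := (Subgroup.normal_subgroupOf_iff_le_normalizer hNL).2 hN
  set S : Subgroup ↥L := (P : Subgroup ↥L) ⊓ N.subgroupOf L with hS
  set K := (Subgroup.normalizer (S : Set ↥L)).map L.subtype with hK
  have hPK : (P : Subgroup ↥L) ≤ Subgroup.normalizer (S : Set ↥L) :=
    le_normalizer_inf Subgroup.le_normalizer (by rw [Subgroup.normalizer_eq_top]; exact le_top)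
  have hARK : AR ≤ K := hAP.trans (Subgroup.map_mono hPK)
  have hKL : K = L := by
    by_contra hne
    have hKM := l.max A hA hAle hAR K ((sup_le hAle l.R_le).trans hARK)
      (lt_of_le_of_ne (Subgroup.map_subtype_le _) hne)
    refine l.not_le fun x hx => ?_
    obtain ⟨a, ha, b, hb, e⟩ := Subgroup.mem_sup_of_normal_right.1
      ((RootBlocks.frattini_inf P (K := N.subgroupOf L)).ge (Subgroup.mem_top (⟨x, hx⟩ : ↥L)))
    rw [show x = (a : Γ) * b from (congrArg Subtype.val e).symm]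
    exact mul_mem (hKM ⟨a, ha, rfl⟩) (hNM hb)
  have hSn : L ≤ Subgroup.normalizer (S.map L.subtype : Set Γ) :=
    hKL.ge.trans (Subgroup.le_normalizer_map _)
  rintro _ ⟨⟨p, hp, rfl⟩, hpN⟩
  exact le_pCoreOf (Subgroup.map_subtype_le _) hSn (((P.2.to_le inf_le_left).map _)) ⟨p, ⟨hp, hpN⟩, rfl⟩

theorem frattini {N : Subgroup Γ} (hNL : N ≤ L) (hN : L ≤ Subgroup.normalizer (N : Set Γ)) (hNM : N ≤ cj h M) :
    AR ⊓ N ≤ pCoreOf 2 L := by
  obtain ⟨P, hP⟩ := (l.AR_p.of_equiv (Subgroup.subgroupOfEquivOfLe l.AR_L).symm).exists_le_sylow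
  have hAP : AR ≤ (P : Subgroup ↥L).map L.subtype := fun a ha => ⟨⟨a, l.AR_L ha⟩, hP ha, rfl⟩
  exact (inf_le_inf_right N hAP).trans (l.frattini_sylow hNL hN hNM P hAP)

/-- A Sylow subgroup over `AR` inside the maximal subgroup. -/
theorem exists_sylow (hM : (T : Subgroup Γ) ≤ M) :
    ∃ P : Sylow 2 ↥L, AR ≤ (P : Subgroup ↥L).map L.subtype ∧ (P : Subgroup ↥L).map L.subtype ≤ cj h M := by
  obtain ⟨A, hA, hle, hR⟩ := l.exA
  obtain ⟨P, hP, hP'⟩ := Cfsg.Agent.S2834.sylow_of_unique l.AR_p l.AR_L (inf_le_left : L ⊓ cj h M ≤ L)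
    (le_inf (sup_le l.AR_L (Large.pCoreOf_le 2 L)) ((sup_le le_rfl l.R_le).trans (l.AR_M hM)))
    (fun X h1 h2 => le_inf h2.le (l.max A hA hle hR X ((sup_le_sup_right hle _).trans h1) h2))
    (fun h' => hR (hle.trans h'))
  exact ⟨P, le_sup_left.trans hP', hP.trans inf_le_right⟩

theorem sup_eq (hM : (T : Subgroup Γ) ≤ M) {A : Subgroup Γ} (hA : Mx A) (hle : A ≤ AR) (hR : ¬ A ≤ pCoreOf 2 L) :
    L ≤ oddGenerated L ⊔ (A ⊔ pCoreOf 2 L) := by
  by_contra hne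
  have hn := oddGenerated_normalized L
  have hB : A ⊔ pCoreOf 2 L ≤ L := sup_le (hle.trans l.AR_L) (Large.pCoreOf_le 2 L)
  set Y := oddGenerated L ⊔ (A ⊔ pCoreOf 2 L) with hY
  have hYM : Y ≤ cj h M := l.max A hA hle hR Y le_sup_right
    (lt_of_le_of_ne (sup_le (oddGenerated_le L) hB) fun e => hne e.ge)
  obtain ⟨P, hP, -⟩ := Cfsg.Agent.S2834.sylow_of_unique (isPGroup_elem2 hA.1) (hle.trans l.AR_L)
    (inf_le_left : L ⊓ cj h M ≤ L) (le_inf hB ((sup_le hle l.R_le).trans (l.AR_M hM)))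
    (fun X h1 h2 => le_inf h2.le (l.max A hA hle hR X h1 h2)) hR
  refine l.not_le fun x hx => ?_
  have hX : Subgroup.closure {y : ↥L | (orderOf y).Coprime 2} ≤ (oddGenerated L).subgroupOf L :=
    (Subgroup.closure_le _).2 fun y hy => odd_mem y.2 (by show Odd (orderOf (y : Γ)); rw [Subgroup.orderOf_coe]; exact Nat.coprime_two_right.1 hy)
  have h1 := (PResidual.pResidual_sup_sylow P).ge (Subgroup.mem_top (⟨x, hx⟩ : ↥L))
  have h2 := Subgroup.mem_map_of_mem L.subtype h1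
  rw [Subgroup.map_sup] at h2
  refine (sup_le ?_ ?_ : _ ≤ cj h M) h2
  · exact hP.trans inf_le_right
  · refine (Subgroup.map_mono hX).trans ?_
    rw [Subgroup.map_subgroupOf_eq_of_le (oddGenerated_le L)]
    exact le_sup_left.trans hYM

theorem sup_AR (hM : (T : Subgroup Γ) ≤ M) : L ≤ oddGenerated L ⊔ AR := by
  obtain ⟨A, hA, hle, hR⟩ := l.exA
  exact (l.sup_eq hM hA hle hR).trans (sup_le_sup_left (sup_le hle l.R_le) _)

/-- A section centralized by an element of `AR` outside the core is centralized by `O²`. -/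
theorem section_cent (hM : (T : Subgroup Γ) ≤ M) {N W : Subgroup Γ} (hN : L ≤ Subgroup.normalizer (N : Set Γ))
    (hW : L ≤ Subgroup.normalizer (W : Set Γ)) {a : Γ} (ha : a ∈ AR) (haR : a ∉ pCoreOf 2 L)
    (hac : a ∈ cmod N W) : oddGenerated L ≤ cmod N W := by
  rcases l.dichotomy hM (inf_le_left : L ⊓ cmod N W ≤ L)
    (le_normalizer_inf Subgroup.le_normalizer (le_cmod_normalizer hN hW)) with h1 | h1
  · exact h1.trans inf_le_right
  · exact absurd (l.frattini inf_le_left (le_normalizer_inf Subgroup.le_normalizer (le_cmod_normalizer hN hW)) h1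
      ⟨ha, l.AR_L ha, hac⟩) haR

theorem exists_out {a : Γ} (ha : a ∈ AR) (haR : a ∉ pCoreOf 2 L) (haM : a ∈ cj h M) :
    ∃ x ∈ L, x ∉ cj h M ∧ a ∉ cj x (cj h M) := by
  by_contra hno
  push Not at hno
  let N : Subgroup Γ := L ⊓ ⨅ x : ↥L, cj (x : Γ) (cj h M)
  have hNn : L ≤ Subgroup.normalizer (N : Set Γ) := by
    refine le_normalizer_inf Subgroup.le_normalizer fun g hg => ZJFailure.mem_normalizer_of_forall fun y hy => ?_
    simp only [Subgroup.mem_iInf] at hy ⊢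
    intro x
    have h1 := hy ⟨g⁻¹ * x, mul_mem (inv_mem hg) x.2⟩
    rw [show cj ((g⁻¹ * (x : Γ) : Γ)) (cj h M) = cj g⁻¹ (cj (x : Γ) (cj h M)) from cj_mul _ _ _, mem_cj] at h1
    simpa [mul_assoc] using h1
  have hNM : N ≤ cj h M := fun y hy => by
    have h1 : y ∈ ⨅ x : ↥L, cj (x : Γ) (cj h M) := hy.2
    have h2 := Subgroup.mem_iInf.1 h1 1
    rwa [show (((1 : ↥L)) : Γ) = 1 from rfl, cj_one] at h2
  refine haR (l.frattini inf_le_left hNn hNM ⟨ha, l.AR_L ha, ?_⟩)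
  show a ∈ ⨅ x : ↥L, cj (x : Γ) (cj h M)
  refine Subgroup.mem_iInf.2 fun x => ?_
  by_cases hx : (x : Γ) ∈ cj h M
  · rw [cj_eq_of_normalizer (Subgroup.le_normalizer hx)]; exact haM
  · exact hno x x.2 hx

end LSys

namespace Setup

variable {T : Sylow 2 Γ} {M V L AR : Subgroup Γ} {h : Γ} (s : Setup T M V) (l : LSys T M L AR h)
include s l

theorem AR_norm : AR ≤ Subgroup.normalizer (cj h V : Set Γ) :=
  l.AR_le.trans ((cj_mono h s.tV).trans (Subgroup.le_normalizer_map _))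

theorem v_le {A : Subgroup Γ} (hA : Mx A) (hle : A ≤ AR) : cj h V ≤ A := s.mx_v hA (hle.trans l.AR_le)

theorem v_AR : cj h V ≤ AR := by
  obtain ⟨A, hA, hle, -⟩ := l.exA
  exact (s.v_le l hA hle).trans hle

theorem core_cj {x : Γ} (hx : x ∈ L) : pCoreOf 2 L ≤ cj (x * h) (T : Subgroup Γ) := by
  have h1 := cj_mono x (l.R_le.trans l.AR_le)
  rwa [cj_eq_of_normalizer (normalizer_pCoreOf L hx), ← cj_mul] at h1

theorem core_norm {x : Γ} (hx : x ∈ L) : pCoreOf 2 L ≤ Subgroup.normalizer (cj (x * h) V : Set Γ) :=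
  (s.core_cj l hx).trans ((cj_mono _ s.tV).trans (Subgroup.le_normalizer_map _))

theorem not_normalized : ¬ L ≤ Subgroup.normalizer (cj h V : Set Γ) := fun h1 =>
  l.not_le (h1.trans (s.normalizer_cj_v h))

/-- `O²` moves the core. -/
theorem odd_moves : ¬ oddGenerated L ≤ Subgroup.centralizer (pCoreOf 2 L : Set Γ) := fun hc => by
  refine l.not_le ((l.sup_AR s.le_M).trans (sup_le ?_ (l.AR_M s.le_M)))
  refine (Subgroup.closure_le _).2 fun x hx => ?_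
  have h1 : x ∈ pCore 2 Γ := s.char2 (Subgroup.centralizer_le l.Q_core (hc (odd_mem hx.1 hx.2)))
  obtain ⟨k, hk⟩ := isPGroup_pCore (G := Γ) 2 ⟨x, h1⟩
  rw [one_of_two_pow hx.2 (n := k) (by simpa using congrArg Subtype.val hk)]
  exact one_mem _

end Setup

end CfsgLib.QTPush.Qrc
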